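import Cfsg.Agent.Lib.Lie.Rel.Inst
import Cfsg.Agent.Lib.Lie.Twisted.Basic

/-!
# The Weyl group on the lattice spanned by the simple roots

The matrices of Weyl group elements in the coordinates of the simple roots, invariant forms, and the triviality
of the stabiliser of a functional vanishing at no root.
-/

set_option autoImplicit false

namespace CfsgLib.Known.CyclicTorus

open Cfsg.Lie (ChevalleyDatum)
open CfsgLib.Lie.Chev
open scoped Matrix

variable {D : ChevalleyDatum} {X : Aux}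

/-- The coordinates of a root. -/
def cvec (D : ChevalleyDatum) (X : Aux) (s : ℕ) : Fin D.rank → ℤ := fun j => X.coef j s

/-- The check that a form is invariant under the simple reflections. -/
def BilOK (D : ChevalleyDatum) (X : Aux) (B : Matrix (Fin D.rank) (Fin D.rank) ℤ) : Prop :=
  ∀ k i j : Fin D.rank, cvec D X (X.w k (D.simple i)) ⬝ᵥ B *ᵥ cvec D X (X.w k (D.simple j)) = B i j

variable {F : Type*} [Field F] {G : Type*} [Group G] (R : Rel D X F G)

/-- The matrix of a permutation of the roots. -/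
def wMat (π : Equiv.Perm (Fin D.nroots)) : Matrix (Fin D.rank) (Fin D.rank) ℤ :=
  Matrix.of fun i => cvec D X (π (R.sroot i) : ℕ)

theorem vecMul_wMat {π : Equiv.Perm (Fin D.nroots)} (h : R.IsLin π) (s : Fin D.nroots) :
    cvec D X s ᵥ* wMat R π = cvec D X (π s : ℕ) := by
  funext j
  simp only [Matrix.vecMul, dotProduct, wMat, Matrix.of_apply, cvec]
  exact (h s j).symm

theorem cvec_sroot (i : Fin D.rank) : cvec D X (R.sroot i : ℕ) = Pi.single i 1 := by
  funext j
  rw [cvec, R.coef_sroot, Pi.single_apply]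

theorem cvec_negF (s : Fin D.nroots) : cvec D X (R.negF s : ℕ) = -cvec D X s := by
  funext j
  exact R.cert.coef_neg s.2 j.2

theorem wMat_one : wMat R 1 = 1 := by
  ext i j
  rw [wMat, Matrix.of_apply, Equiv.Perm.one_apply, cvec_sroot, Matrix.one_eq_pi_single]

theorem wMat_mul {π ρ : Equiv.Perm (Fin D.nroots)} (hπ : R.IsLin π) :
    wMat R (π * ρ) = wMat R ρ * wMat R π := by
  refine Matrix.ext fun i j => ?_
  show cvec D X ((π * ρ) (R.sroot i) : ℕ) j = _
  rw [Equiv.Perm.mul_apply, ← vecMul_wMat R hπ]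
  rfl

theorem isLin_pow {π : Equiv.Perm (Fin D.nroots)} (hπ : R.IsLin π) : ∀ k : ℕ, R.IsLin (π ^ k)
  | 0 => by rw [pow_zero]; exact R.isLin_one
  | k + 1 => by rw [pow_succ]; exact R.isLin_mul (isLin_pow hπ k) hπ

theorem wMat_pow {π : Equiv.Perm (Fin D.nroots)} (hπ : R.IsLin π) : ∀ k : ℕ, wMat R (π ^ k) = wMat R π ^ k
  | 0 => by rw [pow_zero, pow_zero, wMat_one]
  | k + 1 => by rw [pow_succ', wMat_mul R hπ, wMat_pow hπ k, pow_succ]

/-- An invariant form gives invariant pairings of roots. -/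
theorem bil_invariant {B : Matrix (Fin D.rank) (Fin D.rank) ℤ} (hB : BilOK D X B) (g : R.NS) :
    wMat R (R.nsPerm g) * B * (wMat R (R.nsPerm g))ᵀ = B := by
  obtain ⟨l, hl⟩ := R.exists_word g
  rw [← R.qact_qmk, hl]
  clear hl
  induction l with
  | nil => rw [CfsgLib.Lie.Exchange.wprod_nil, map_one, wMat_one, one_mul, Matrix.transpose_one, mul_one]
  | cons k l ih =>
    have e1 : wMat R (R.wperm k) * B * (wMat R (R.wperm k))ᵀ = B := by
      refine Matrix.ext fun i j => ?_
      rw [Matrix.mul_assoc]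
      refine Eq.trans ?_ (hB k i j)
      simp only [Matrix.mul_apply, Matrix.transpose_apply, wMat, Matrix.of_apply, dotProduct, Matrix.mulVec]
      rfl
    rw [CfsgLib.Lie.Exchange.wprod_cons, map_mul, R.qact_qgen, wMat_mul R (R.isLin_wperm k), Matrix.transpose_mul]
    generalize wMat R (R.wperm k) = A at e1 ⊢
    generalize wMat R (R.qact (CfsgLib.Lie.Exchange.wprod R.qgen l)) = W at ih ⊢
    calc W * A * B * (Aᵀ * Wᵀ) = W * (A * B * Aᵀ) * Wᵀ := by simp only [Matrix.mul_assoc]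
      _ = B := by rw [e1, ih]

/-- A functional on the lattice which vanishes at no root has a trivial stabiliser. -/
theorem mem_HS_of_fix_functional [Finite G] (y : Fin D.rank → ℤ) (hy : ∀ s : Fin D.nroots, cvec D X s ⬝ᵥ y ≠ 0)
    (m : R.NS) (hm : ∀ s : Fin D.nroots, cvec D X (R.nsPerm m s : ℕ) ⬝ᵥ y = cvec D X s ⬝ᵥ y) : (m : G) ∈ R.HS := by
  classical
  obtain ⟨L, hL⟩ : ∃ L : Fin D.nroots → ℤ, L = fun s : Fin D.nroots => cvec D X (s : ℕ) ⬝ᵥ y := ⟨_, rfl⟩
  obtain ⟨pos, hpos⟩ : ∃ pos : Finset (Fin D.nroots), pos = Finset.univ.filter fun s : Fin D.nroots => half D ≤ (s : ℕ) := ⟨_, rfl⟩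
  obtain ⟨w, hw⟩ := Finite.exists_max fun w : R.NS => ∑ s ∈ pos, L (R.nsPerm w s)
  have hLneg : ∀ s, L (R.negF s) = -L s := fun s => by rw [hL]; simp [cvec_negF]
  have hsimple : ∀ i : Fin D.rank, 0 < L (R.nsPerm w (R.sroot i)) := by
    intro i
    have h1 := hw (w * R.nS i)
    simp only [map_mul, R.nsPerm_nS, Equiv.Perm.mul_apply] at h1
    have hi : R.sroot i ∈ pos := by rw [hpos]; simp [R.sroot_pos]
    rw [← Finset.add_sum_erase _ _ hi, ← Finset.add_sum_erase _ _ hi, R.wperm_sroot, R.nsPerm_negF, hLneg] at h1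
    have hsq : ∀ x, R.wperm i (R.wperm i x) = x := fun x => by
      have := congrArg (fun e : Equiv.Perm (Fin D.nroots) => e x) (R.wperm_mul_self i)
      simpa using this
    have hmem : ∀ s ∈ pos.erase (R.sroot i), R.wperm i s ∈ pos.erase (R.sroot i) := by
      intro s hs
      rw [Finset.mem_erase, hpos, Finset.mem_filter] at hs ⊢
      refine ⟨fun e => ?_, Finset.mem_univ _, R.wperm_pos i s hs.2.2 hs.1⟩
      have := hsq s
      rw [e, R.wperm_sroot] at this
      rw [← this] at hs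
      exact (R.negF_pos_iff _).1 hs.2.2 (R.sroot_pos i)
    have h2 : ∑ s ∈ pos.erase (R.sroot i), L (R.nsPerm w (R.wperm i s)) =
        ∑ s ∈ pos.erase (R.sroot i), L (R.nsPerm w s) :=
      Finset.sum_nbij' (fun s => R.wperm i s) (fun s => R.wperm i s) hmem hmem (fun s _ => hsq s) (fun s _ => hsq s)
        (fun s _ => rfl)
    rw [h2] at h1
    refine lt_of_le_of_ne (by linarith) ?_
    rw [hL]
    exact (hy _).symm
  have hpos' : ∀ s : Fin D.nroots, half D ≤ (s : ℕ) → 0 < L (R.nsPerm w s) := by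
    intro s hs
    obtain ⟨j0, hj0⟩ := R.exists_coef_ne_zero s
    have e : L (R.nsPerm w s) = ∑ i : Fin D.rank, X.coef i (s : ℕ) * L (R.nsPerm w (R.sroot i)) := by
      rw [hL]
      show cvec D X (R.nsPerm w s : ℕ) ⬝ᵥ y = _
      rw [← vecMul_wMat R (R.isLin_nsPerm w), ← Matrix.dotProduct_mulVec]
      rfl
    rw [e]
    exact Finset.sum_pos' (fun i _ => mul_nonneg (R.cert.coef_nonneg s.2 i.2 hs) (hsimple i).le)
      ⟨j0, Finset.mem_univ _, mul_pos (lt_of_le_of_ne (R.cert.coef_nonneg s.2 j0.2 hs) (Ne.symm hj0)) (hsimple j0)⟩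
  have hiff : ∀ s : Fin D.nroots, 0 < L (R.nsPerm w s) → half D ≤ (s : ℕ) := fun s hs => by
    by_contra hneg
    have h := hpos' _ ((R.negF_pos_iff s).2 hneg)
    rw [R.nsPerm_negF, hLneg] at h
    linarith
  have hfix : ∀ s, L (R.nsPerm m s) = L s := fun s => by rw [hL]; exact hm s
  have h3 : ((w⁻¹ * m * w : R.NS) : G) ∈ R.HS := by
    refine R.nsPerm_eq_one_of_pos _ fun i => hiff _ ?_
    rw [map_mul, map_mul, map_inv, Equiv.Perm.mul_apply, Equiv.Perm.mul_apply, Equiv.Perm.inv_def,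
      Equiv.apply_symm_apply, hfix]
    exact hsimple i
  have h4 := R.HS_conj w.2 h3
  simpa [mul_assoc] using h4

end CfsgLib.Known.CyclicTorus
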