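import Mathlib

/-!
# Integral matrices of finite order with a primitive root of unity as a modular eigenvalue
-/

set_option autoImplicit false

namespace CfsgLib.Known.CyclicTorus

open Polynomial
open scoped Matrix

theorem not_dvd_of_totient_lt {r d : ℕ} (hr : r.Prime) (hd : 0 < d) (h : d.totient + 1 < r) : ¬ r ∣ d := by
  intro hdvd
  have h1 := Nat.le_of_dvd (Nat.totient_pos.2 hd) (Nat.totient_dvd_of_dvd hdvd)
  rw [Nat.totient_prime hr] at h1
  omega

/-- If a matrix of finite order has a primitive `n`-th root of unity as eigenvalue modulo a large prime and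
`φ(n)` is its size, then it is annihilated by the `n`-th cyclotomic polynomial. -/
theorem aeval_cyclotomic_eq_zero {l r n m : ℕ} [Fact r.Prime] (W : Matrix (Fin l) (Fin l) ℤ) (hm : 0 < m)
    (hW : W ^ m = 1) (hn : n.totient = l) (hlr : l + 1 < r) {z : ZMod r} (hz : IsPrimitiveRoot z n)
    {v : Fin l → ZMod r} (hv : v ≠ 0) (hWv : (W.map (Int.cast : ℤ → ZMod r)) *ᵥ v = z • v) :
    aeval W (cyclotomic n ℤ) = 0 := by
  classical
  have hr : r.Prime := Fact.out
  obtain ⟨χ, hχ⟩ : ∃ χ, χ = W.charpoly := ⟨_, rfl⟩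
  have hmon : χ.Monic := hχ ▸ W.charpoly_monic
  have hroot : χ.eval₂ (Int.castRingHom (ZMod r)) z = 0 := by
    rw [hχ, ← eval_map, ← Matrix.charpoly_map, Matrix.eval_charpoly]
    refine Matrix.exists_mulVec_eq_zero_iff.1 ⟨v, hv, ?_⟩
    rw [Matrix.sub_mulVec, sub_eq_zero]
    refine Eq.trans ?_ hWv.symm
    funext i
    simp [Matrix.scalar_apply, Matrix.mulVec_diagonal]
  obtain ⟨u, hu⟩ := UniqueFactorizationMonoid.factors_prod hmon.ne_zero
  obtain ⟨f, hf, hfz⟩ : ∃ f ∈ UniqueFactorizationMonoid.factors χ, f.eval₂ (Int.castRingHom (ZMod r)) z = 0 := by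
    rw [← hu, eval₂_mul, mul_eq_zero] at hroot
    have hunit : IsUnit ((u : ℤ[X]).eval₂ (Int.castRingHom (ZMod r)) z) :=
      (u.map (eval₂RingHom (Int.castRingHom (ZMod r)) z : ℤ[X] →* ZMod r)).isUnit
    have h0 := hroot.resolve_right hunit.ne_zero
    rw [← coe_eval₂RingHom, map_multiset_prod, Multiset.prod_eq_zero_iff, Multiset.mem_map] at h0
    exact h0
  have hirr := UniqueFactorizationMonoid.irreducible_of_factor f hf
  have hdvd : f ∣ χ := UniqueFactorizationMonoid.dvd_of_mem_factors hf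
  obtain ⟨g, hg⟩ := hdvd
  have hlead : IsUnit f.leadingCoeff := by
    refine IsUnit.of_mul_eq_one g.leadingCoeff ?_
    rw [← leadingCoeff_mul, ← hg, hmon.leadingCoeff]
  have hdeg : f.natDegree ≠ 0 := by
    intro h0
    obtain ⟨c, rfl⟩ : ∃ c, f = C c := ⟨_, eq_C_of_natDegree_eq_zero h0⟩
    rw [leadingCoeff_C] at hlead
    exact hirr.not_isUnit (isUnit_C.2 hlead)
  obtain ⟨x, hx⟩ : ∃ x : ℂ, aeval x f = 0 := by
    obtain ⟨x, hx⟩ := IsAlgClosed.exists_root (f.map (algebraMap ℤ ℂ)) (by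
      rw [degree_map_eq_of_injective (algebraMap ℤ ℂ).injective_int]
      intro h0
      exact hdeg (natDegree_eq_of_degree_eq_some h0))
    exact ⟨x, by rwa [IsRoot.def, eval_map] at hx⟩
  have hxm : x ^ m = 1 := by
    have hdet : ((W.map (Int.cast : ℤ → ℂ)).charpoly).eval x = 0 := by
      rw [show (Int.cast : ℤ → ℂ) = ⇑(Int.castRingHom ℂ) from rfl, Matrix.charpoly_map, eval_map, ← hχ, hg,
        eval₂_mul]
      refine mul_eq_zero.2 (Or.inl ?_)
      rw [show Int.castRingHom ℂ = algebraMap ℤ ℂ from rfl]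
      exact hx
    rw [Matrix.eval_charpoly] at hdet
    obtain ⟨w, hw, hWw⟩ := Matrix.exists_mulVec_eq_zero_iff.2 hdet
    rw [Matrix.sub_mulVec, sub_eq_zero] at hWw
    have hev : ∀ k : ℕ, ((W ^ k).map (Int.cast : ℤ → ℂ)) *ᵥ w = x ^ k • w := by
      intro k
      induction k with
      | zero => simp [Matrix.map_one]
      | succ k ih =>
        rw [pow_succ, show (Int.cast : ℤ → ℂ) = ⇑(Int.castRingHom ℂ) from rfl, Matrix.map_mul,
          ← Matrix.mulVec_mulVec]
        rw [show (W.map ⇑(Int.castRingHom ℂ)) *ᵥ w = x • w from by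
          rw [show ⇑(Int.castRingHom ℂ) = (Int.cast : ℤ → ℂ) from rfl, ← hWw]
          funext i
          simp [Matrix.scalar_apply, Matrix.mulVec_diagonal]]
        rw [Matrix.mulVec_smul, show ((W ^ k).map ⇑(Int.castRingHom ℂ)) *ᵥ w = x ^ k • w from ih, smul_smul,
          pow_succ']
    have h1 := hev m
    rw [hW, Matrix.map_one _ Int.cast_zero Int.cast_one, Matrix.one_mulVec] at h1
    obtain ⟨i, hi⟩ := Function.ne_iff.1 hw
    have h2 := congrFun h1 i
    rw [Pi.smul_apply, smul_eq_mul] at h2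
    exact (mul_eq_right₀ hi).1 h2.symm
  have hd0 : 0 < orderOf x := (isOfFinOrder_iff_pow_eq_one.2 ⟨m, hm, hxm⟩).orderOf_pos
  have hprim := IsPrimitiveRoot.orderOf x
  have hcd : cyclotomic (orderOf x) ℤ ∣ f := by
    rw [cyclotomic_eq_minpoly hprim hd0]
    exact minpoly.isIntegrallyClosed_dvd (hprim.isIntegral hd0) hx
  have hassoc : Associated f (cyclotomic (orderOf x) ℤ) :=
    ((cyclotomic.irreducible hd0).associated_of_dvd hirr hcd).symm
  have hz0 : (cyclotomic (orderOf x) (ZMod r)).IsRoot z := by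
    obtain ⟨w, hw⟩ := hassoc
    rw [IsRoot.def, ← map_cyclotomic_int, eval_map, ← hw, eval₂_mul, hfz, zero_mul]
  have hchi : cyclotomic (orderOf x) ℤ ∣ χ := hcd.trans ⟨g, hg⟩
  have htot : (orderOf x).totient ≤ l := by
    have h := natDegree_le_of_dvd hchi hmon.ne_zero
    rw [natDegree_cyclotomic, hχ, Matrix.charpoly_natDegree_eq_dim, Fintype.card_fin] at h
    exact h
  have hne : NeZero ((orderOf x : ℕ) : ZMod r) := ⟨fun h => not_dvd_of_totient_lt hr hd0 (by omega)
    ((ZMod.natCast_eq_zero_iff (orderOf x) r).1 h)⟩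
  have hdn : orderOf x = n := (isRoot_cyclotomic_iff.1 hz0).unique hz
  rw [hdn] at hchi
  have heq : χ = cyclotomic n ℤ := eq_of_monic_of_dvd_of_natDegree_le (cyclotomic.monic n ℤ) hmon hchi (by
    rw [hχ, Matrix.charpoly_natDegree_eq_dim, Fintype.card_fin, natDegree_cyclotomic, hn])
  rw [← heq, hχ]
  exact W.aeval_self_charpoly

end CfsgLib.Known.CyclicTorus
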