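import Mathlib

/-!
# Eigenvectors of integral matrices over residue rings
-/

set_option autoImplicit false

namespace CfsgLib.Known.CyclicTorus

open scoped Matrix
open Polynomial

variable {l : ℕ}

/-- The matrix with rows `a, aW, aW², …`. -/
def kry (W : Matrix (Fin l) (Fin l) ℤ) (a : Fin l → ℤ) : Matrix (Fin l) (Fin l) ℤ :=
  Matrix.of fun k => a ᵥ* W ^ (k : ℕ)

variable {S : Type*} [CommRing S]

/-- An integral matrix over a ring. -/
def castM (S : Type*) [CommRing S] (W : Matrix (Fin l) (Fin l) ℤ) : Matrix (Fin l) (Fin l) S :=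
  (Int.castRingHom S).mapMatrix W

/-- An integral vector over a ring. -/
def castV (S : Type*) [CommRing S] (a : Fin l → ℤ) : Fin l → S := fun i => (a i : S)

theorem castV_vecMul (a : Fin l → ℤ) (W : Matrix (Fin l) (Fin l) ℤ) :
    castV S (a ᵥ* W) = castV S a ᵥ* castM S W := by
  funext j
  simp [castV, castM, Matrix.vecMul, dotProduct]

theorem castM_mulVec_eigen {W : Matrix (Fin l) (Fin l) ℤ} {q : S} {k : Fin l → S}
    (hk : castM S W *ᵥ k = q • k) : ∀ i : ℕ, castM S (W ^ i) *ᵥ k = q ^ i • k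
  | 0 => by simp [castM]
  | i + 1 => by
    rw [castM, map_pow, pow_succ, ← Matrix.mulVec_mulVec]
    rw [show (Int.castRingHom S).mapMatrix W *ᵥ k = q • k from hk, Matrix.mulVec_smul, ← map_pow]
    rw [show (Int.castRingHom S).mapMatrix (W ^ i) *ᵥ k = q ^ i • k from castM_mulVec_eigen hk i, smul_smul,
      pow_succ']

theorem castM_aeval_eigen {W : Matrix (Fin l) (Fin l) ℤ} {q : ℤ} {k : Fin l → S}
    (hk : castM S W *ᵥ k = (q : S) • k) (p : ℤ[X]) :
    castM S (aeval W p) *ᵥ k = ((p.eval q : ℤ) : S) • k := by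
  induction p using Polynomial.induction_on' with
  | add p p' hp hp' =>
    rw [map_add, castM, map_add, Matrix.add_mulVec, eval_add, Int.cast_add, add_smul]
    exact congrArg₂ (· + ·) hp hp'
  | monomial i c =>
    rw [aeval_monomial, eval_monomial, ← Algebra.smul_def, castM, map_zsmul, Matrix.smul_mulVec,
      show (Int.castRingHom S).mapMatrix (W ^ i) *ᵥ k = (q : S) ^ i • k from castM_mulVec_eigen hk i, Int.cast_mul,
      Int.cast_pow]
    funext x
    simp [mul_assoc]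

theorem eval_smul_eq_zero {W : Matrix (Fin l) (Fin l) ℤ} {q : ℤ} {k : Fin l → S}
    (hk : castM S W *ᵥ k = (q : S) • k) {p : ℤ[X]} (hp : aeval W p = 0) : ((p.eval q : ℤ) : S) • k = 0 := by
  rw [← castM_aeval_eigen hk, hp, castM, map_zero, Matrix.zero_mulVec]

theorem kry_mulVec {W : Matrix (Fin l) (Fin l) ℤ} {q : S} {k : Fin l → S} (hk : castM S W *ᵥ k = q • k)
    (a : Fin l → ℤ) : castM S (kry W a) *ᵥ k = fun i : Fin l => q ^ (i : ℕ) * (castV S a ⬝ᵥ k) := by
  funext i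
  show castV S (a ᵥ* W ^ (i : ℕ)) ⬝ᵥ k = _
  rw [castV_vecMul, ← Matrix.dotProduct_mulVec, castM_mulVec_eigen hk, dotProduct_smul, smul_eq_mul]

theorem det_smul_eq_zero {M : Matrix (Fin l) (Fin l) ℤ} {k : Fin l → S} (h : castM S M *ᵥ k = 0) :
    (M.det : S) • k = 0 := by
  have e : castM S M.adjugate * castM S M = (M.det : S) • (1 : Matrix (Fin l) (Fin l) S) := by
    rw [castM, castM, ← map_mul, Matrix.adjugate_mul, map_zsmul, map_one, Int.cast_smul_eq_zsmul]
  have h2 := congrArg (castM S M.adjugate *ᵥ ·) h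
  simp only [Matrix.mulVec_mulVec, Matrix.mulVec_zero] at h2
  rwa [e, Matrix.smul_mulVec, Matrix.one_mulVec] at h2

/-- The eigenvector with value one at a cyclic vector. -/
theorem exists_eigen {W : Matrix (Fin l) (Fin l) ℤ} {q : ℤ} {p : ℤ[X]} (hp : aeval W p = 0) (hmon : p.Monic)
    (hdeg : p.natDegree = l) (hq : ((p.eval q : ℤ) : S) = 0) (hl : 0 < l) (a : Fin l → ℤ)
    (hunit : IsUnit ((kry W a).det : S)) :
    ∃ u : Fin l → S, castM S W *ᵥ u = (q : S) • u ∧ castV S a ⬝ᵥ u = 1 := by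
  obtain ⟨M, hM⟩ : ∃ M, M = castM S (kry W a) := ⟨_, rfl⟩
  have hdet : IsUnit M.det := by
    rw [hM, castM, ← RingHom.map_det]
    exact hunit
  obtain ⟨u, hu⟩ : ∃ u, u = M⁻¹ *ᵥ fun i : Fin l => (q : S) ^ (i : ℕ) := ⟨_, rfl⟩
  have hMu : M *ᵥ u = fun i : Fin l => (q : S) ^ (i : ℕ) := by
    rw [hu, Matrix.mulVec_mulVec, Matrix.mul_nonsing_inv _ hdet, Matrix.one_mulVec]
  obtain ⟨L, hL⟩ : ∃ L : ℕ → S, ∀ j, L j = castV S (a ᵥ* W ^ j) ⬝ᵥ u := ⟨_, fun _ => rfl⟩
  have hlow : ∀ j, j < l → L j = (q : S) ^ j := fun j hj => by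
    have h := congrFun hMu ⟨j, hj⟩
    rw [hM] at h
    rw [hL]
    exact h
  have htop : L l = (q : S) ^ l := by
    have h1 : ∑ j ∈ Finset.range (l + 1), (p.coeff j : S) * L j = 0 := by
      have h := congrArg (fun Z : Matrix (Fin l) (Fin l) ℤ => castV S (a ᵥ* Z) ⬝ᵥ u) hp
      rw [aeval_eq_sum_range, hdeg] at h
      simp only [Matrix.vecMul_zero] at h
      refine Eq.trans ?_ (h.trans (by simp [castV, dotProduct]))
      simp only [Matrix.vecMul_sum, Matrix.vecMul_smul, dotProduct, castV, Finset.sum_apply, Pi.smul_apply,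
        Int.cast_sum, smul_eq_mul, Int.cast_mul, Finset.sum_mul, hL]
      rw [Finset.sum_comm]
      simp only [Finset.mul_sum, mul_assoc]
    have h2 : ∑ j ∈ Finset.range (l + 1), (p.coeff j : S) * (q : S) ^ j = 0 := by
      rw [← hq, eval_eq_sum_range, hdeg, Int.cast_sum]
      simp
    have hc : p.coeff l = 1 := by rw [← hdeg]; exact hmon.coeff_natDegree
    rw [Finset.sum_range_succ, hc, Int.cast_one, one_mul] at h1 h2
    rw [Finset.sum_congr rfl fun j hj => by rw [hlow j (Finset.mem_range.1 hj)]] at h1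
    exact add_left_cancel (h1.trans h2.symm)
  have hall : ∀ j, j ≤ l → L j = (q : S) ^ j := fun j hj => by
    rcases hj.lt_or_eq with h | h
    · exact hlow j h
    · rw [h, htop]
  refine ⟨u, ?_, ?_⟩
  · have h3 : M *ᵥ (castM S W *ᵥ u) = M *ᵥ ((q : S) • u) := by
      funext i
      rw [Matrix.mulVec_smul, hMu, Pi.smul_apply, smul_eq_mul, ← pow_succ', ← hall _ i.2, hL, hM]
      show castV S (a ᵥ* W ^ (i : ℕ)) ⬝ᵥ (castM S W *ᵥ u) = _
      rw [Matrix.dotProduct_mulVec, ← castV_vecMul, Matrix.vecMul_vecMul, ← pow_succ]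
    have h4 := congrArg (M⁻¹ *ᵥ ·) h3
    simpa [Matrix.mulVec_mulVec, ← Matrix.mul_assoc, Matrix.nonsing_inv_mul _ hdet] using h4
  · have h := hall 0 (Nat.zero_le _)
    rw [hL, pow_zero, pow_zero, Matrix.vecMul_one] at h
    exact h

end CfsgLib.Known.CyclicTorus
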