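import Cfsg.Agent.Lib.Known.CyclicTorus.Weyl
import Cfsg.Agent.Lib.Known.CyclicTorus.Cyclo
import Cfsg.Agent.Lib.Known.CyclicTorus.Krylov
import Cfsg.Agent.Lib.Known.RegularTorus
import Cfsg.Agent.Lib.Known.TrialityTorus.Tools
import Cfsg.Agent.Lib.Known.PSLTori
import Cfsg.Agent.Lib.Lie.Rel.TorusConj
import Cfsg.Agent.Lib.Lie.Rel.Order

/-!
# Cyclic self-centralising maximal tori of Chevalley groups

An element of prime order `r` dividing `Φₙ(q)` is conjugate into the split torus over the field with `qⁿ`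
elements, and the Frobenius map then acts on that torus through a Weyl group element annihilated by `Φₙ`.
-/

set_option autoImplicit false
set_option maxHeartbeats 1600000

namespace CfsgLib.Known.CyclicTorus

open Cfsg.Lie (ChevalleyDatum)
open CfsgLib.Lie.Chev
open scoped Matrix
open Polynomial (cyclotomic)

variable {D : ChevalleyDatum} {X : Aux}

/-- The properties of the torus-twisting Weyl group element used for the centraliser. -/
def GramOK (D : ChevalleyDatum) (X : Aux) (B : Matrix (Fin D.rank) (Fin D.rank) ℤ) (n P r : ℕ) : Prop :=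
  ∀ W : Matrix (Fin D.rank) (Fin D.rank) ℤ,
    (∀ s : Fin D.nroots, ∃ s' : Fin D.nroots, cvec D X s ᵥ* W = cvec D X s') →
    W * B * Wᵀ = B → Polynomial.aeval W (cyclotomic n ℤ) = 0 →
    (∀ s : Fin D.nroots, ¬ (r : ℤ) ∣ (kry W (cvec D X s)).det) ∧
      ∃ s : Fin D.nroots, IsCoprime (kry W (cvec D X s)).det (P : ℤ)

/-- A cyclic group generated by an element of order `P` which is self-centralising. -/
def HasTorus (D : ChevalleyDatum) (F : Type*) [Field F] (P : ℕ) : Prop :=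
  ∃ H : Subgroup ↥(D.group F), IsCyclic ↥H ∧ Nat.card ↥H = P ∧ Subgroup.centralizer (H : Set ↥(D.group F)) = H

theorem exists_eq_natCast_mul {N r e : ℕ} [NeZero N] (hr : 0 < r) (hN : N = r * e) {x : ZMod N}
    (h : (r : ZMod N) * x = 0) : ∃ b : ℕ, x = ((e * b : ℕ) : ZMod N) := by
  rw [← ZMod.natCast_zmod_val x, ← Nat.cast_mul, ZMod.natCast_eq_zero_iff] at h
  have h2 : r * e ∣ r * x.val := hN ▸ h
  obtain ⟨b, hb⟩ := (Nat.mul_dvd_mul_iff_left hr).1 h2
  exact ⟨b, by rw [← hb, ZMod.natCast_zmod_val]⟩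

theorem exists_prod_pow_sub_one {Q r : ℕ} (hr : r.Prime) (hQ : r ∣ Q - 1) (hQ1 : 1 ≤ Q) :
    ∀ l : List ℕ, (∀ k ∈ l, ¬ r ∣ k) →
      ∃ M, ¬ r ∣ M ∧ (l.map fun k => Q ^ k - 1).prod = (Q - 1) ^ l.length * M
  | [], _ => ⟨1, hr.not_dvd_one, by simp⟩
  | k :: l, h => by
    obtain ⟨M, hM, e⟩ := exists_prod_pow_sub_one hr hQ hQ1 l fun j hj => h j (List.mem_cons_of_mem _ hj)
    refine ⟨(∑ i ∈ Finset.range k, Q ^ i) * M, fun hd => ?_, ?_⟩
    · refine (hr.dvd_mul.1 hd).elim (fun h1 => h k List.mem_cons_self ?_) hM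
      have h2 : ((∑ i ∈ Finset.range k, Q ^ i : ℕ) : ZMod r) = 0 := (ZMod.natCast_eq_zero_iff _ _).2 h1
      have hQr : (Q : ZMod r) = 1 := by
        have h3 : ((Q - 1 : ℕ) : ZMod r) = 0 := (ZMod.natCast_eq_zero_iff _ _).2 hQ
        rw [Nat.cast_sub hQ1, Nat.cast_one, sub_eq_zero] at h3
        exact h3
      rw [Nat.cast_sum] at h2
      simp [hQr] at h2
      exact (ZMod.natCast_eq_zero_iff _ _).1 h2
    · rw [List.map_cons, List.prod_cons, e, List.length_cons, pow_succ']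
      have h4 := geom_sum_mul_add (Q - 1) k
      rw [Nat.sub_add_cancel hQ1] at h4
      rw [← h4, Nat.add_sub_cancel]
      ring

theorem exists_torus_of_extension (C : Cert D X) {M U U' V V' : List (List ℤ)} {d degs : List ℕ}
    (hM : cmat D = M) (hchk : chkSmith D.rank M U U' V V' d = true) (hd : ∀ i : Fin D.rank, d.getD i 0 = 1)
    (hp : chkPoly M D.rank (half D) degs = true) (hlen : degs.length = D.rank)
    {B : Matrix (Fin D.rank) (Fin D.rank) ℤ} (hB : BilOK D X B)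
    {F : Type*} [Field F] [Fintype F] {K : Type*} [Field K] [Fintype K] [Algebra F K]
    {q n P r : ℕ} [Fact r.Prime] (hF : Fintype.card F = q) (hK : Fintype.card K = q ^ n)
    (hP : (cyclotomic n ℤ).eval (q : ℤ) = (P : ℤ)) (hrP : r ∣ P) (hn : n.totient = D.rank) (hrn : ¬ r ∣ n)
    (hdiv : ∃ k ∈ degs, n ∣ k) (hrk : ∀ k ∈ degs, ¬ r ∣ k) (hlr : D.rank + 1 < r)
    (hG : GramOK D X B n P r) : HasTorus D F P := by
  classical
  have hr : r.Prime := Fact.out
  have hq1 : 1 < q := hF ▸ Fintype.one_lt_card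
  have hn0 : 0 < n := Nat.pos_of_ne_zero fun h => hrn (h ▸ dvd_zero r)
  obtain ⟨Q, hQ⟩ : ∃ Q, Q = q ^ n := ⟨_, rfl⟩
  obtain ⟨N, hN⟩ : ∃ N, N = Nat.card Kˣ := ⟨_, rfl⟩
  have hQ1 : 1 < Q := hQ ▸ Nat.one_lt_pow hn0.ne' hq1
  have hNQ : N = Q - 1 := by rw [hN, Nat.card_units, Nat.card_eq_fintype_card, hK, hQ]
  have hPN : P ∣ N := by
    rw [hNQ, hQ, ← Int.natCast_dvd_natCast, ← hP, Nat.cast_sub (Nat.one_le_pow _ _ (by omega)), Nat.cast_pow,
      Nat.cast_one]
    have h := Polynomial.eval_dvd (x := (q : ℤ)) (Polynomial.cyclotomic.dvd_X_pow_sub_one n ℤ)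
    simpa using h
  have hrN : r ∣ N := hrP.trans hPN
  have : NeZero N := ⟨by omega⟩
  have hP0 : 0 < P := Nat.pos_of_ne_zero fun h => by rw [h, zero_dvd_iff] at hPN; omega
  have : NeZero P := ⟨hP0.ne'⟩
  obtain ⟨eP, heP⟩ := hPN
  -- the eigenvalue modulo `r`
  have hzr : IsPrimitiveRoot ((q : ℕ) : ZMod r) n := by
    have : NeZero ((n : ℕ) : ZMod r) := ⟨fun h => hrn ((ZMod.natCast_eq_zero_iff _ _).1 h)⟩
    rw [← Polynomial.isRoot_cyclotomic_iff, Polynomial.IsRoot.def, ← Polynomial.map_cyclotomic_int,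
      Polynomial.eval_map, show ((q : ℕ) : ZMod r) = Int.castRingHom (ZMod r) (q : ℤ) by simp,
      Polynomial.eval₂_at_apply, hP]
    simp [(ZMod.natCast_eq_zero_iff _ _).2 hrP]
  -- orders
  have hcardK : Nat.card ↥(D.group K) = Q ^ (D.nroots / 2) * (degs.map fun k => Q ^ k - 1).prod := by
    have h := card_group C K hM hchk hp (hK.trans hQ.symm)
    rwa [Finset.prod_eq_one (fun i _ => by rw [hd i, Nat.gcd_one_right]), one_mul] at h
  have hcardH : Nat.card ↥(chevRel C K).HS = (Q - 1) ^ D.rank := by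
    have h := card_HS_mul C K hM hchk
    rw [hK, ← hQ] at h
    rwa [Finset.prod_eq_one (fun i _ => by rw [hd i, Nat.gcd_one_right]), one_mul] at h
  obtain ⟨M', hM', hprod⟩ := exists_prod_pow_sub_one hr (hNQ ▸ hrN) hQ1.le degs hrk
  rw [hlen, ← hcardH] at hprod
  have hrQ : ¬ r ∣ Q ^ (D.nroots / 2) := fun h => by
    have h1 := hr.dvd_of_dvd_pow h
    have h2 := Nat.dvd_sub h1 (hNQ ▸ hrN)
    rw [Nat.sub_sub_self hQ1.le] at h2
    exact hr.not_dvd_one h2
  have hker : ∀ c : Fin D.rank → Kˣ, (chevRel C K).torusHom c = 1 → c = 1 := fun c hc =>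
    ChevFixed.torusHom_injective_of_smith C hM hchk (fun i => by rw [hd i, Nat.gcd_one_right]) c hc
  -- an element of order `r`
  have hxF : ∃ x : ↥(D.group F), orderOf x = r := by
    refine exists_prime_orderOf_dvd_card' r ?_
    have h := card_group C F hM hchk hp hF
    rw [Finset.prod_eq_one (fun i _ => by rw [hd i, Nat.gcd_one_right]), one_mul] at h
    rw [h]
    refine dvd_mul_of_dvd_right ?_ _
    obtain ⟨k, hk, hnk⟩ := hdiv
    refine Dvd.dvd.trans ?_ (List.dvd_prod (List.mem_map_of_mem hk))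
    rw [← ZMod.natCast_eq_zero_iff, Nat.cast_sub (Nat.one_le_pow _ _ (by omega)), Nat.cast_pow, Nat.cast_one,
      sub_eq_zero]
    exact (hzr.pow_eq_one_iff_dvd k).2 hnk
  obtain ⟨x, hx⟩ := hxF
  obtain ⟨ι, hι⟩ : ∃ ι : F →+* K, ι = algebraMap F K := ⟨_, rfl⟩
  obtain ⟨J, hJ⟩ : ∃ J, J = ChevFixed.groupMap D ι := ⟨_, rfl⟩
  have hJinj : Function.Injective J := hJ ▸ ChevFixed.groupMap_injective ι
  obtain ⟨σ, hσ⟩ : ∃ σ : K ≃+* K, ∀ a, σ a = a ^ q := by
    obtain ⟨p, hc⟩ := CharP.exists F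
    have := hc
    obtain ⟨a, hp', hqp⟩ := FiniteField.card F p
    have : Fact p.Prime := ⟨hp'⟩
    have : CharP K p := charP_of_injective_algebraMap (algebraMap F K).injective p
    have hb : Function.Bijective (iterateFrobenius K p a) :=
      Finite.injective_iff_bijective.1 (RingHom.injective _)
    exact ⟨RingEquiv.ofBijective _ hb, fun b => by
      rw [RingEquiv.ofBijective_apply, iterateFrobenius_def, ← hF, hqp]⟩
  have hσι : ∀ c, σ (ι c) = ι c := fun c => by rw [hσ, ← map_pow, ← hF, FiniteField.pow_card]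
  have hj : ∀ a : K, σ a = a ↔ a ∈ ι.range := by
    refine fun a => ⟨fun ha => ?_, fun ⟨c, hc⟩ => hc ▸ hσι c⟩
    rcases eq_or_ne a 0 with rfl | ha0
    · exact zero_mem _
    · obtain ⟨c, hc⟩ := PSLTori.exists_algebraMap_eq (F := F) a (mul_right_cancel₀ ha0 (by
        rw [hF, ← pow_succ, Nat.sub_add_cancel hq1.le, ← hσ, ha, one_mul]))
      exact ⟨c, by rw [hι, hc]⟩
  obtain ⟨φ, hφ⟩ : ∃ φ, φ = fieldAut D σ := ⟨_, rfl⟩
  have hφJ : ∀ g, φ (J g) = J g := fun g => by
    rw [hφ, hJ]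
    exact Subtype.ext (Units.ext (Matrix.ext fun a b => hσι _))
  -- discrete logarithms
  obtain ⟨lgE, -⟩ : ∃ e : Additive Kˣ ≃+ ZMod N, True :=
    ⟨hN ▸ (MulEquiv.toAdditive (zmodCyclicMulEquiv (G := Kˣ) inferInstance).symm).trans
      (AddEquiv.additiveMultiplicative _), trivial⟩
  obtain ⟨lg, hlg⟩ : ∃ lg : Kˣ → ZMod N, ∀ u, lg u = lgE (Additive.ofMul u) := ⟨_, fun _ => rfl⟩
  have hlg_mul : ∀ u v, lg (u * v) = lg u + lg v := fun u v => by rw [hlg, hlg, hlg, ofMul_mul, map_add]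
  have hlg_zpow : ∀ (u : Kˣ) (z : ℤ), lg (u ^ z) = (z : ZMod N) * lg u := fun u z => by
    rw [hlg, hlg, ofMul_zpow, map_zsmul, zsmul_eq_mul]
  have hlg_pow : ∀ (u : Kˣ) (z : ℕ), lg (u ^ z) = (z : ZMod N) * lg u := fun u z => by
    rw [← zpow_natCast, hlg_zpow, Int.cast_natCast]
  have hlg_prod : ∀ f : Fin D.rank → Kˣ, lg (∏ i, f i) = ∑ i, lg (f i) := fun f => by
    rw [hlg, ofMul_prod, map_sum]
    exact Finset.sum_congr rfl fun i _ => (hlg _).symm
  have hlg_inj : Function.Injective lg := fun u v h => by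
    rw [hlg, hlg] at h
    exact Additive.ofMul.injective (lgE.injective h)
  have hlg_one : lg 1 = 0 := by rw [hlg, ofMul_one, map_zero]
  -- coordinates on the torus
  obtain ⟨val, hval⟩ : ∃ val : (Fin D.rank → Kˣ) → Fin D.nroots → Kˣ, ∀ c s,
      val c s = ∏ i : Fin D.rank, c i ^ D.cartan i s := ⟨_, fun _ _ => rfl⟩
  obtain ⟨kc, hkc⟩ : ∃ kc : (Fin D.rank → Kˣ) → Fin D.rank → ZMod N, ∀ c j,
      kc c j = lg (val c ((chevRel C K).sroot j)) := ⟨_, fun _ _ => rfl⟩
  have hkc_val : ∀ c (s : Fin D.nroots), lg (val c s) = castV (ZMod N) (cvec D X s) ⬝ᵥ kc c := by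
    intro c s
    simp only [dotProduct, hkc, hval, hlg_prod, hlg_zpow, castV, cvec, Finset.mul_sum]
    rw [Finset.sum_comm]
    refine Finset.sum_congr rfl fun i _ => ?_
    rw [C.cartan_eq s.2 i.2, Finset.sum_range, Int.cast_sum, Finset.sum_mul]
    refine Finset.sum_congr rfl fun j _ => ?_
    rw [Int.cast_mul, mul_assoc]
    rfl
  have hkc_mul : ∀ c c', kc (c * c') = kc c + kc c' := fun c c' => funext fun j => by
    simp only [Pi.add_apply, hkc, hval, ← hlg_mul, ← Finset.prod_mul_distrib, Pi.mul_apply, mul_zpow]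
  have hkc_pow : ∀ c (z : ℕ), kc (c ^ z) = (z : ZMod N) • kc c := by
    intro c z
    induction z with
    | zero => funext j; simp [hkc, hval, hlg_one]
    | succ z ih => rw [pow_succ, hkc_mul, ih, Nat.cast_succ, add_smul, one_smul]
  have hkc_one : kc 1 = 0 := funext fun j => by simp [hkc, hval, hlg_one]
  have hkc_inj : Function.Injective kc := by
    intro c c' h
    have h1 : kc (c / c') = 0 := by
      have h2 := hkc_mul (c / c') c'
      rw [div_mul_cancel, h] at h2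
      exact add_eq_right.1 h2.symm
    refine div_eq_one.1 (hker _ ?_)
    refine MonoidHom.mem_ker.1 ((mem_torusHom_ker C K _).2 (MonoidHom.mem_ker.2 (funext fun j => hlg_inj ?_)))
    have h3 := congrFun h1 j
    rw [hkc, hval, Pi.zero_apply] at h3
    rw [Pi.one_apply, hlg_one, ← h3, powMat_apply]
    refine congrArg lg (Finset.prod_congr rfl fun i _ => congrArg _ ?_)
    simp [cmat, List.getD_eq_getElem?_getD, i.2, j.2, Rel.sroot]
  have hkc_surj : Function.Surjective kc := by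
    refine ((Fintype.bijective_iff_injective_and_card kc).2 ⟨hkc_inj, ?_⟩).2
    rw [Fintype.card_fun, Fintype.card_fun, ZMod.card, hN, Nat.card_eq_fintype_card]
  obtain ⟨T, hT⟩ : ∃ T : (Fin D.rank → Kˣ) →* ↥(D.group K),
      T = ((chevRel C K).HS.subtype).comp (chevRel C K).torusHom := ⟨_, rfl⟩
  have hTinj : Function.Injective T := by
    rw [hT]
    exact (Subgroup.subtype_injective _).comp ((injective_iff_map_eq_one _).2 hker)
  have hTmem : ∀ c, T c ∈ (chevRel C K).HS := fun c => by rw [hT]; exact SetLike.coe_mem _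
  have hTsurj : ∀ g ∈ (chevRel C K).HS, ∃ c, T c = g := fun g hg => by
    obtain ⟨c, hc⟩ := (chevRel C K).torusHom_surjective ⟨g, hg⟩
    exact ⟨c, by rw [hT, MonoidHom.comp_apply, hc]; rfl⟩
  have hTmon : ∀ c, (chevRel C K).IsMon (T c) 1 fun s => ((val c s : Kˣ) : K) := fun c => by
    simp only [hval, hT]
    exact TrialityTorus.isMon_torusHom (chevRel C K) c
  have hφT : ∀ c, φ (T c) = T (c ^ q) := fun c => by
    rw [hφ, hT, MonoidHom.comp_apply, MonoidHom.comp_apply]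
    refine (ChevFixed.fieldAut_torusHom C σ c).trans ?_
    refine congrArg (fun c => (((chevRel C K).torusHom c : (chevRel C K).HS) : ↥(D.group K))) (funext fun i => Units.ext ?_)
    simp [hσ]
  -- the twist of a Weyl group element
  obtain ⟨Wof, hWof⟩ : ∃ Wof : (chevRel C K).NS → Matrix (Fin D.rank) (Fin D.rank) ℤ,
      ∀ m, Wof m = wMat (chevRel C K) ((chevRel C K).nsPerm m⁻¹) := ⟨_, fun _ => rfl⟩
  have htw : ∀ (m : (chevRel C K).NS) c, (m : ↥(D.group K)) * T c * (m : ↥(D.group K))⁻¹ = φ (T c) ↔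
      castM (ZMod N) (Wof m) *ᵥ kc c = ((q : ℤ) : ZMod N) • kc c := by
    intro m c
    obtain ⟨π, hπ⟩ : ∃ π, π = (chevRel C K).nsPerm m := ⟨_, rfl⟩
    obtain ⟨d', hd'⟩ := hTsurj _ ((chevRel C K).HS_conj m.2 (hTmem c))
    have hdval : ∀ s, val d' (π s) = val c s := by
      intro s
      obtain ⟨b, hb⟩ := (chevRel C K).isMon_nsPerm m
      have h1 := (chevRel C K).isMon_mul ((chevRel C K).isMon_mul hb (hTmon c)) ((chevRel C K).isMon_inv hb)
      rw [mul_one, mul_inv_cancel, ← hd'] at h1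
      have h2 := congrFun ((chevRel C K).isMon_unique (hTmon d') h1).2 (π s)
      refine Units.ext (h2.trans ?_)
      have hs : ((chevRel C K).nsPerm m)⁻¹ (π s) = s := by rw [hπ, Equiv.Perm.inv_def, Equiv.symm_apply_apply]
      simp only [Equiv.Perm.one_apply, hs]
      rw [mul_comm (b s), mul_assoc, mul_inv_cancel₀ (hb s).1, mul_one]
    have hW : castM (ZMod N) (Wof m) *ᵥ kc d' = fun j => lg (val d' (π⁻¹ ((chevRel C K).sroot j))) := by
      funext j
      rw [hkc_val, hπ, ← map_inv, hWof]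
      rfl
    rw [← hd', hφT, hTinj.eq_iff]
    have hdc : ∀ j, castV (ZMod N) (cvec D X (π ((chevRel C K).sroot j) : ℕ)) ⬝ᵥ kc d' = kc c j := fun j => by
      rw [← hkc_val, hdval, hkc]
    have hWd : castM (ZMod N) (wMat (chevRel C K) π) *ᵥ kc d' = kc c := funext fun j => hdc j
    have hinv : castM (ZMod N) (Wof m) * castM (ZMod N) (wMat (chevRel C K) π) = 1 := by
      rw [castM, castM, ← map_mul, hWof, hπ, ← wMat_mul (chevRel C K) ((chevRel C K).isLin_nsPerm _), map_inv,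
        mul_inv_cancel, wMat_one, map_one]
    have hd'eq : kc d' = castM (ZMod N) (Wof m) *ᵥ kc c := by
      rw [← hWd, Matrix.mulVec_mulVec, hinv, Matrix.one_mulVec]
    rw [← hkc_inj.eq_iff, hd'eq, hkc_pow, Int.cast_natCast]
  have hWprop : ∀ (m : (chevRel C K).NS) c, (∀ j, (r : ZMod N) * kc c j = 0) → kc c ≠ 0 →
      castM (ZMod N) (Wof m) *ᵥ kc c = ((q : ℤ) : ZMod N) • kc c →
      Polynomial.aeval (Wof m) (cyclotomic n ℤ) = 0 := by
    intro m c hrc hc0 heig
    obtain ⟨e, he⟩ := hrN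
    have e0 : 0 < e := Nat.pos_of_ne_zero fun h => by rw [h, mul_zero] at he; omega
    choose b hb using fun j => exists_eq_natCast_mul hr.pos he (hrc j)
    refine aeval_cyclotomic_eq_zero (Wof m) (orderOf_pos ((chevRel C K).nsPerm m⁻¹)) ?_ hn hlr hzr
      (v := fun j => (b j : ZMod r)) ?_ (funext fun i => ?_)
    · rw [hWof, ← wMat_pow (chevRel C K) ((chevRel C K).isLin_nsPerm _), pow_orderOf_eq_one, wMat_one]
    · intro h
      refine hc0 (funext fun j => ?_)
      obtain ⟨w, hw⟩ := (ZMod.natCast_eq_zero_iff _ _).1 (congrFun h j)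
      rw [hb j, hw, ← mul_assoc, mul_comm e, ← he, Nat.cast_mul, ZMod.natCast_self, zero_mul, Pi.zero_apply]
    · have h := congrFun heig i
      simp only [castM, RingHom.mapMatrix_apply, Matrix.mulVec, dotProduct, Matrix.map_apply, eq_intCast,
        Pi.smul_apply, smul_eq_mul, hb] at h
      have h2 : (((e : ℤ) * ((∑ j, Wof m i j * (b j : ℤ)) - (q : ℤ) * (b i : ℤ)) : ℤ) : ZMod N) = 0 := by
        push_cast
        rw [mul_sub, sub_eq_zero, Finset.mul_sum]
        refine Eq.trans (Finset.sum_congr rfl fun j _ => ?_) (h.trans ?_)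
        · push_cast; ring
        · push_cast; ring
      rw [ZMod.intCast_zmod_eq_zero_iff_dvd, he, Nat.cast_mul, mul_comm (r : ℤ)] at h2
      have h3 := (ZMod.intCast_zmod_eq_zero_iff_dvd _ r).2
        ((mul_dvd_mul_iff_left (by exact_mod_cast e0.ne' : (e : ℤ) ≠ 0)).1 h2)
      push_cast at h3
      rw [sub_eq_zero] at h3
      simpa [Matrix.mulVec, dotProduct] using h3
  have hWgram : ∀ m : (chevRel C K).NS, Polynomial.aeval (Wof m) (cyclotomic n ℤ) = 0 →
      (∀ s : Fin D.nroots, ¬ (r : ℤ) ∣ (kry (Wof m) (cvec D X s)).det) ∧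
        ∃ s : Fin D.nroots, IsCoprime (kry (Wof m) (cvec D X s)).det (P : ℤ) := by
    intro m hm
    refine hG _ (fun s => ⟨(chevRel C K).nsPerm m⁻¹ s, ?_⟩) ?_ hm
    · rw [hWof]; exact vecMul_wMat (chevRel C K) ((chevRel C K).isLin_nsPerm _) s
    · rw [hWof]; exact bil_invariant (chevRel C K) hB _
  have hkz : ∀ (a : ℤ) (k : Fin D.rank → ZMod N) (b : ℤ), IsCoprime a b → (a : ZMod N) • k = 0 →
      (b : ZMod N) • k = 0 → k = 0 := by
    intro a k b ⟨u, v, huv⟩ ha hb
    have h : (((u * a + v * b : ℤ)) : ZMod N) • k = 0 := by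
      push_cast
      rw [add_smul, mul_smul, mul_smul, ha, hb, smul_zero, smul_zero, add_zero]
    rwa [huv, Int.cast_one, one_smul] at h
  -- regular torus elements
  have hregular : ∀ (m : (chevRel C K).NS) c, (∀ j, (r : ZMod N) * kc c j = 0) → kc c ≠ 0 →
      castM (ZMod N) (Wof m) *ᵥ kc c = ((q : ℤ) : ZMod N) • kc c →
      ∀ g, g * T c = T c * g → g ∈ (chevRel C K).HS := by
    intro m c hrc hc0 heig
    obtain ⟨hall, -⟩ := hWgram m (hWprop m c hrc hc0 heig)
    have hrk' : ((r : ℤ) : ZMod N) • kc c = 0 := funext fun j => by simpa using hrc j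
    have hne : ∀ s : Fin D.nroots, lg (val c s) ≠ 0 := by
      intro s hs
      rw [hkc_val] at hs
      have h0 : castM (ZMod N) (kry (Wof m) (cvec D X s)) *ᵥ kc c = 0 := by
        rw [kry_mulVec heig]
        funext i
        rw [hs, mul_zero, Pi.zero_apply]
      exact hc0 (hkz _ _ _ ((Nat.prime_iff_prime_int.1 hr).coprime_iff_not_dvd.2 (hall s)).symm
        (det_smul_eq_zero h0) hrk')
    refine fun g hg => RegularTorus.mem_HS_of_commute' (chevRel C K) (hTmem c) (hTmon c) (fun s h => hne s ?_)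
      (fun w hw => ?_) hg
    · rw [show val c s = 1 from Units.ext h, hlg_one]
    obtain ⟨ρ, hρ⟩ : ∃ ρ, ρ = (chevRel C K).nsPerm w := ⟨_, rfl⟩
    have hlin : (chevRel C K).IsLin ρ := hρ ▸ (chevRel C K).isLin_nsPerm w
    obtain ⟨o, ho⟩ : ∃ o, o = orderOf ρ := ⟨_, rfl⟩
    have hro : ¬ r ∣ o := by
      intro hro
      have h1 : o ∣ Nat.card (chevRel C K).WQ := by
        rw [ho, hρ, ← (chevRel C K).qact_qmk]
        exact (orderOf_map_dvd _ _).trans (orderOf_dvd_natCard _)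
      have h2 : Nat.card (chevRel C K).WQ * Nat.card ↥(chevRel C K).HS = Nat.card ↥(chevRel C K).NS := by
        rw [← Nat.card_congr (Subgroup.subgroupOfEquivOfLe (chevRel C K).HS_le_NS).toEquiv]
        exact (Subgroup.card_eq_card_quotient_mul_card_subgroup _).symm
      have h3 := h2 ▸ Subgroup.card_subgroup_dvd_card (chevRel C K).NS
      rw [hcardK, hprod, mul_left_comm, mul_comm (Nat.card ↥(chevRel C K).HS)] at h3
      exact (hr.dvd_mul.1 ((hro.trans h1).trans (Nat.dvd_of_mul_dvd_mul_right Nat.card_pos h3))).elim hrQ hM'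
    have hwk : ∀ (i : ℕ) (s : Fin D.nroots),
        castV (ZMod N) (cvec D X ((ρ ^ i) s : ℕ)) ⬝ᵥ kc c = castV (ZMod N) (cvec D X s) ⬝ᵥ kc c := by
      intro i
      induction i with
      | zero => intro s; rw [pow_zero, Equiv.Perm.one_apply]
      | succ i ih =>
        intro s
        rw [pow_succ, Equiv.Perm.mul_apply, ih, ← hkc_val, ← hkc_val, hρ]
        exact congrArg lg (Units.ext (hw s))
    obtain ⟨y, hy⟩ : ∃ y : Fin D.rank → ℤ,
        y = ∑ i ∈ Finset.range o, wMat (chevRel C K) ρ ^ i *ᵥ fun j => ((kc c j).val : ℤ) := ⟨_, rfl⟩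
    refine mem_HS_of_fix_functional (chevRel C K) y (fun s h => ?_) w fun s => ?_
    · apply hne s
      have h1 : ((cvec D X s ⬝ᵥ y : ℤ) : ZMod N) = (o : ZMod N) * (castV (ZMod N) (cvec D X s) ⬝ᵥ kc c) := by
        rw [hy, dotProduct_sum, Int.cast_sum, Finset.sum_congr rfl fun i _ => ?_, Finset.sum_const, Finset.card_range,
          nsmul_eq_mul]
        rw [← hwk i s, Matrix.dotProduct_mulVec, ← wMat_pow (chevRel C K) hlin,
          vecMul_wMat (chevRel C K) (isLin_pow (chevRel C K) hlin i)]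
        simp [dotProduct, castV]
      rw [h, Int.cast_zero, ← hkc_val] at h1
      have h2 : ((o : ℤ) : ZMod N) • (fun _ : Fin D.rank => lg (val c s)) = 0 := funext fun j => by
        simpa using h1.symm
      have h3 : ((r : ℤ) : ZMod N) • (fun _ : Fin D.rank => lg (val c s)) = 0 := funext fun j => by
        simp only [Pi.smul_apply, smul_eq_mul, Pi.zero_apply, Int.cast_natCast]
        rw [hkc_val, dotProduct, Finset.mul_sum]
        exact Finset.sum_eq_zero fun i _ => by rw [mul_left_comm, hrc, mul_zero]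
      have h4 := hkz _ _ _ ((Nat.prime_iff_prime_int.1 hr).coprime_iff_not_dvd.2
        (fun h => hro (Int.natCast_dvd_natCast.1 h))).symm h2 h3
      exact congrFun h4 ⟨0, hn ▸ Nat.totient_pos.2 hn0⟩
    · have hWy : wMat (chevRel C K) ρ *ᵥ y = y := by
        obtain ⟨v, hv⟩ : ∃ v : Fin D.rank → ℤ, v = fun j => ((kc c j).val : ℤ) := ⟨_, rfl⟩
        rw [hy, ← hv, Matrix.mulVec_sum]
        simp only [Matrix.mulVec_mulVec, ← pow_succ']
        have h0 := Finset.sum_range_succ' (fun i => wMat (chevRel C K) ρ ^ i *ᵥ v) o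
        rw [Finset.sum_range_succ] at h0
        have ho1 : wMat (chevRel C K) ρ ^ o = 1 := by
          rw [← wMat_pow (chevRel C K) hlin, ho, pow_orderOf_eq_one, wMat_one]
        rw [ho1, pow_zero] at h0
        exact (add_right_cancel h0).symm
      rw [← hρ, ← vecMul_wMat (chevRel C K) hlin, ← Matrix.dotProduct_mulVec, hWy]
  -- conjugating `x` into the split torus
  obtain ⟨S0, -⟩ : ∃ S0 : Sylow r ↥(chevRel C K).HS, True := ⟨Classical.arbitrary _, trivial⟩
  obtain ⟨S1, hS1⟩ : ∃ S1 : Sylow r ↥(D.group K),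
      (S1 : Subgroup ↥(D.group K)) = (S0 : Subgroup _).map (chevRel C K).HS.subtype := by
    refine ⟨Sylow.ofCard ((S0 : Subgroup _).map (chevRel C K).HS.subtype) ?_, rfl⟩
    rw [Subgroup.card_map_of_injective (Subgroup.subtype_injective _), S0.card_eq_multiplicity]
    refine congrArg (r ^ ·) ?_
    have hM0 : M' ≠ 0 := fun h => hM' (by rw [h]; exact dvd_zero r)
    rw [hcardK, hprod, Nat.factorization_mul (pow_ne_zero _ (by omega)) (mul_ne_zero Nat.card_pos.ne' hM0),
      Nat.factorization_mul Nat.card_pos.ne' hM0]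
    simp only [Finsupp.coe_add, Pi.add_apply, Nat.factorization_eq_zero_of_not_dvd hrQ,
      Nat.factorization_eq_zero_of_not_dvd hM', zero_add, add_zero]
  obtain ⟨P1, hP1⟩ := (IsPGroup.of_card (n := 1) (p := r) (G := Subgroup.zpowers (J x))
    (by rw [Nat.card_zpowers, orderOf_injective J hJinj, hx, pow_one])).exists_le_sylow
  obtain ⟨Y, hY⟩ := MulAction.exists_smul_eq ↥(D.group K) P1 S1
  have hsH : Y * J x * Y⁻¹ ∈ (chevRel C K).HS := by
    have h1 : Y * J x * Y⁻¹ ∈ (S1 : Subgroup ↥(D.group K)) := by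
      rw [← hY, Sylow.coe_subgroup_smul, Subgroup.mem_pointwise_smul_iff_inv_smul_mem, MulAut.smul_def,
        ← map_inv, MulAut.conj_apply]
      simpa [mul_assoc] using hP1 (Subgroup.mem_zpowers (J x))
    rw [hS1] at h1
    exact Subgroup.map_subtype_le _ h1
  obtain ⟨cs, hcs⟩ := hTsurj _ hsH
  have hcsr : ∀ j, (r : ZMod N) * kc cs j = 0 := by
    have h1 : cs ^ r = 1 := hTinj (by rw [map_pow, hcs, conj_pow, ← map_pow, ← hx, pow_orderOf_eq_one, map_one,
      mul_one, mul_inv_cancel, map_one])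
    intro j
    have h2 := congrFun (hkc_pow cs r) j
    rw [h1, hkc_one] at h2
    simpa using h2.symm
  have hcs0 : kc cs ≠ 0 := by
    intro h
    have h1 : cs = 1 := hkc_inj (h.trans hkc_one.symm)
    rw [h1, map_one, eq_comm, mul_inv_eq_one, mul_eq_left] at hcs
    have h2 : x = 1 := hJinj (hcs.trans (map_one J).symm)
    rw [h2, orderOf_one] at hx
    exact hr.one_lt.ne hx
  have hg : φ Y * Y⁻¹ * T cs * (φ Y * Y⁻¹)⁻¹ = φ (T cs) := by
    rw [hcs, map_mul, map_mul, map_inv, hφJ]; group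
  obtain ⟨m0, hm0, hm0'⟩ := (chevRel C K).exists_NS_conj (g := φ Y * Y⁻¹) (hTmem cs)
    (h₂ := φ (T cs)) (by rw [hφT]; exact hTmem _) (by rw [← hg]; group)
  have heig0 := (htw ⟨m0, hm0⟩ cs).1 hm0'
  have hgH : m0⁻¹ * (φ Y * Y⁻¹) ∈ (chevRel C K).HS := by
    refine hregular _ cs hcsr hcs0 heig0 _ ?_
    have h := hg.trans hm0'.symm
    generalize φ Y * Y⁻¹ = g at h ⊢
    have h5 : g * T cs = m0 * T cs * m0⁻¹ * g := by rw [← h]; group
    rw [mul_assoc m0⁻¹, h5]; group
  obtain ⟨m, hm⟩ : ∃ m : (chevRel C K).NS, (m : ↥(D.group K)) = φ Y * Y⁻¹ :=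
    ⟨⟨_, by simpa [mul_assoc] using mul_mem hm0 ((chevRel C K).HS_le_NS hgH)⟩, rfl⟩
  have heig : castM (ZMod N) (Wof m) *ᵥ kc cs = ((q : ℤ) : ZMod N) • kc cs := (htw m cs).1 (by rw [hm, hg])
  have hPhi := hWprop m cs hcsr hcs0 heig
  obtain ⟨-, s0, hs0⟩ := hWgram m hPhi
  -- the generator
  have hunit : IsUnit ((kry (Wof m) (cvec D X s0)).det : ZMod P) := by
    obtain ⟨u, v, huv⟩ := hs0
    refine IsUnit.of_mul_eq_one (u : ZMod P) ?_
    have h := congrArg (fun z : ℤ => (z : ZMod P)) huv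
    simp only [Int.cast_add, Int.cast_mul, Int.cast_one, Int.cast_natCast, ZMod.natCast_self, mul_zero,
      add_zero] at h
    rw [mul_comm, h]
  obtain ⟨u, hu, hu1⟩ := exists_eigen (S := ZMod P) (q := (q : ℤ)) hPhi (Polynomial.cyclotomic.monic n ℤ)
    (by rw [Polynomial.natDegree_cyclotomic, hn]) (by rw [hP, Int.cast_natCast, ZMod.natCast_self])
    (hn ▸ Nat.totient_pos.2 hn0) (cvec D X s0) hunit
  obtain ⟨c0, hc0⟩ := hkc_surj fun j => ((eP * (u j).val : ℕ) : ZMod N)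
  have hlift : ∀ z : ℤ, (z : ZMod P) = 0 → (((eP : ℤ) * z : ℤ) : ZMod N) = 0 := fun z hz => by
    rw [ZMod.intCast_zmod_eq_zero_iff_dvd, heP, Nat.cast_mul, mul_comm]
    exact mul_dvd_mul_left _ ((ZMod.intCast_zmod_eq_zero_iff_dvd _ _).1 hz)
  have heigc : castM (ZMod N) (Wof m) *ᵥ kc c0 = ((q : ℤ) : ZMod N) • kc c0 := by
    funext i
    have hz := hlift ((∑ j, Wof m i j * ((u j).val : ℤ)) - (q : ℤ) * ((u i).val : ℤ)) (by
      push_cast
      rw [sub_eq_zero]
      simpa [Matrix.mulVec, dotProduct, castM] using congrFun hu i)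
    push_cast at hz
    rw [mul_sub, sub_eq_zero, Finset.mul_sum] at hz
    simp only [hc0, castM, RingHom.mapMatrix_apply, Matrix.mulVec, dotProduct, Matrix.map_apply, eq_intCast,
      Pi.smul_apply, smul_eq_mul]
    push_cast
    rw [Finset.sum_congr rfl fun j _ => mul_left_comm _ _ _, hz]
    ring
  have hc0α : castV (ZMod N) (cvec D X s0) ⬝ᵥ kc c0 = (eP : ZMod N) := by
    have hz := hlift ((∑ j, cvec D X s0 j * ((u j).val : ℤ)) - 1) (by
      push_cast
      rw [sub_eq_zero]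
      simpa [castV, dotProduct] using hu1)
    push_cast at hz
    rw [mul_sub, sub_eq_zero, mul_one, Finset.mul_sum] at hz
    refine Eq.trans ?_ hz
    simp only [hc0, dotProduct, castV]
    push_cast
    exact Finset.sum_congr rfl fun j _ => mul_left_comm _ _ _
  have hPe : (P : ZMod N) * (eP : ZMod N) = 0 := by rw [← Nat.cast_mul, ← heP, ZMod.natCast_self]
  have hkiff : ∀ k : ℕ, (k : ZMod N) • kc c0 = 0 ↔ P ∣ k := by
    intro k
    refine ⟨fun h => ?_, fun ⟨w, hw⟩ => ?_⟩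
    · have h1 : castV (ZMod N) (cvec D X s0) ⬝ᵥ ((k : ZMod N) • kc c0) = 0 := by rw [h, dotProduct_zero]
      rw [dotProduct_smul, hc0α, smul_eq_mul, ← Nat.cast_mul, ZMod.natCast_eq_zero_iff, heP] at h1
      exact Nat.dvd_of_mul_dvd_mul_right (Nat.pos_of_ne_zero fun h => by rw [h, mul_zero] at heP; omega) h1
    · funext j
      rw [Pi.smul_apply, hc0, smul_eq_mul, hw, Pi.zero_apply]
      beta_reduce
      rw [Nat.cast_mul, Nat.cast_mul,
        mul_assoc (P : ZMod N), mul_left_comm (w : ZMod N), ← mul_assoc, hPe, zero_mul]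
  have hfix : φ (Y⁻¹ * T c0 * Y) = Y⁻¹ * T c0 * Y := by
    have h := (htw m c0).2 heigc
    rw [hm] at h
    rw [map_mul, map_mul, map_inv, ← h]; group
  obtain ⟨t, ht⟩ : ∃ t : ↥(D.group F), J t = Y⁻¹ * T c0 * Y := by
    have h := ChevFixed.eq_range_of_fixed C σ ι hj hker (hφ ▸ hfix)
    exact hJ ▸ h
  have hord : orderOf t = P := by
    rw [← orderOf_injective J hJinj, ht, ← orderOf_injective (MulAut.conj Y).toMonoidHom (MulAut.conj Y).injective,
      show (MulAut.conj Y).toMonoidHom (Y⁻¹ * T c0 * Y) = T c0 by simp [mul_assoc],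
      orderOf_injective T hTinj]
    refine Nat.dvd_antisymm (orderOf_dvd_of_pow_eq_one (hkc_inj ?_)) ((hkiff _).1 ?_)
    · rw [hkc_pow, hkc_one]; exact (hkiff P).2 dvd_rfl
    · rw [← hkc_pow, pow_orderOf_eq_one, hkc_one]
  refine ⟨Subgroup.zpowers t, inferInstance, by rw [Nat.card_zpowers, hord], le_antisymm ?_ ?_⟩
  swap
  · exact Subgroup.le_centralizer _
  intro g hg'
  have hgt : t * g = g * t := Subgroup.mem_centralizer_iff.1 hg' t (Subgroup.mem_zpowers t)
  obtain ⟨P', hP'⟩ := hrP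
  obtain ⟨c1, hc1⟩ : ∃ c1, c1 = c0 ^ P' := ⟨_, rfl⟩
  have hgH' : Y * J g * Y⁻¹ ∈ (chevRel C K).HS := by
    refine hregular m c1 (fun j => ?_) (fun h => ?_) ?_ _ ?_
    · have h := congrFun ((hkiff P).2 dvd_rfl) j
      rw [hP', Nat.cast_mul, mul_smul] at h
      rw [hc1, hkc_pow]
      simpa using h
    · rw [hc1, hkc_pow, hkiff] at h
      have := Nat.le_of_dvd (Nat.pos_of_ne_zero fun h0 => by rw [h0, mul_zero] at hP'; omega) h
      have h2 := Nat.mul_le_mul_right P' hr.two_le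
      rw [← hP'] at h2
      rcases Nat.eq_zero_or_pos P' with h0 | h0
      · rw [h0, mul_zero] at hP'; omega
      · omega
    · rw [hc1, hkc_pow, Matrix.mulVec_smul, heigc, smul_comm]
    · rw [hc1, map_pow]
      refine Commute.pow_right ?_ _
      have hT0 : T c0 = Y * J t * Y⁻¹ := by rw [ht]; group
      rw [hT0]
      show (Y * J g * Y⁻¹) * (Y * J t * Y⁻¹) = (Y * J t * Y⁻¹) * (Y * J g * Y⁻¹)
      rw [conj_mul, conj_mul, ← map_mul, ← map_mul, hgt]
  obtain ⟨cg, hcg⟩ := hTsurj _ hgH'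
  have heigg : castM (ZMod N) (Wof m) *ᵥ kc cg = ((q : ℤ) : ZMod N) • kc cg := by
    refine (htw m cg).1 ?_
    rw [hm, hcg, map_mul, map_mul, map_inv, hφJ]; group
  have hPg : ((P : ℤ) : ZMod N) • kc cg = 0 := by rw [← hP]; exact eval_smul_eq_zero heigg hPhi
  obtain ⟨b, hb⟩ := exists_eq_natCast_mul hP0 heP (x := castV (ZMod N) (cvec D X s0) ⬝ᵥ kc cg) (by
    have h : castV (ZMod N) (cvec D X s0) ⬝ᵥ (((P : ℤ) : ZMod N) • kc cg) = 0 := by rw [hPg, dotProduct_zero]
    rwa [dotProduct_smul, smul_eq_mul, Int.cast_natCast] at h)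
  have hdiff : kc cg - (b : ZMod N) • kc c0 = 0 := by
    refine hkz _ _ _ hs0 (det_smul_eq_zero ?_) ?_
    · have he : castM (ZMod N) (Wof m) *ᵥ (kc cg - (b : ZMod N) • kc c0) =
          ((q : ℤ) : ZMod N) • (kc cg - (b : ZMod N) • kc c0) := by
        rw [Matrix.mulVec_sub, Matrix.mulVec_smul, heigg, heigc, smul_sub, smul_comm]
      rw [kry_mulVec he]
      funext i
      rw [dotProduct_sub, dotProduct_smul, hb, hc0α, smul_eq_mul, Nat.cast_mul, mul_comm (b : ZMod N), sub_self,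
        mul_zero, Pi.zero_apply]
    · rw [smul_sub, hPg, smul_comm, Int.cast_natCast, (hkiff P).2 dvd_rfl, smul_zero, sub_zero]
  refine ⟨(b : ℤ), ?_⟩
  show t ^ (b : ℤ) = g
  rw [zpow_natCast]
  apply hJinj
  rw [map_pow, ht]
  have hcg' : cg = c0 ^ b := hkc_inj (by rw [hkc_pow]; exact sub_eq_zero.1 hdiff)
  rw [hcg', map_pow] at hcg
  have hg2 : J g = Y⁻¹ * (T c0) ^ b * (Y⁻¹)⁻¹ := by rw [hcg]; group
  rw [hg2, ← conj_pow, inv_inv]

end CfsgLib.Known.CyclicTorus
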