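import Cfsg.Agent.Lib.Known.CyclicTorus.Krylov

/-!
# Gram matrices of orbits of an isometry annihilated by a polynomial
-/

set_option autoImplicit false

namespace CfsgLib.Known.CyclicTorus

open scoped Matrix
open Polynomial

variable {l : ℕ} (W B : Matrix (Fin l) (Fin l) ℤ) (a : Fin l → ℤ)

/-- The pairings of the orbit of a vector. -/
def gram (i j : ℕ) : ℤ := (a ᵥ* W ^ i) ⬝ᵥ B *ᵥ (a ᵥ* W ^ j)

theorem kry_gram : kry W a * B * (kry W a)ᵀ = Matrix.of fun i j : Fin l => gram W B a i j := by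
  refine Matrix.ext fun i j => ?_
  rw [Matrix.mul_assoc]
  simp only [Matrix.mul_apply, Matrix.transpose_apply, Matrix.of_apply, gram, kry, dotProduct, Matrix.mulVec]

variable {W B}

theorem gram_shift (hinv : W * B * Wᵀ = B) (i j : ℕ) : gram W B a (i + 1) (j + 1) = gram W B a i j := by
  unfold gram
  rw [pow_succ, pow_succ, ← Matrix.vecMul_vecMul, ← Matrix.vecMul_vecMul, ← Matrix.dotProduct_mulVec,
    ← Matrix.mulVec_transpose W (a ᵥ* W ^ j), Matrix.mulVec_mulVec, Matrix.mulVec_mulVec, hinv]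

theorem gram_comm (hs : Bᵀ = B) (i j : ℕ) : gram W B a i j = gram W B a j i := by
  unfold gram
  rw [Matrix.dotProduct_mulVec, ← Matrix.mulVec_transpose B, hs, dotProduct_comm]

theorem gram_add (hinv : W * B * Wᵀ = B) (i j : ℕ) : ∀ k : ℕ, gram W B a (i + k) (j + k) = gram W B a i j
  | 0 => rfl
  | k + 1 => by rw [← Nat.add_assoc, ← Nat.add_assoc, gram_shift a hinv, gram_add hinv i j k]

theorem gram_dist (hinv : W * B * Wᵀ = B) (hs : Bᵀ = B) (i j : ℕ) :
    gram W B a i j = gram W B a 0 (max i j - min i j) := by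
  rcases le_total i j with h | h
  · rw [max_eq_right h, min_eq_left h]
    have := gram_add a hinv 0 (j - i) i
    rwa [Nat.zero_add, Nat.sub_add_cancel h] at this
  · rw [max_eq_left h, min_eq_right h, gram_comm a hs]
    have := gram_add a hinv 0 (i - j) j
    rwa [Nat.zero_add, Nat.sub_add_cancel h] at this

theorem gram_rel {p : ℤ[X]} (hp : aeval W p = 0) (u j : ℕ) :
    ∑ k ∈ Finset.range (p.natDegree + 1), p.coeff k * gram W B a (k + u) j = 0 := by
  have h : ((a ᵥ* (aeval W p * W ^ u)) ⬝ᵥ B *ᵥ (a ᵥ* W ^ j)) = 0 := by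
    rw [hp, zero_mul, Matrix.vecMul_zero, zero_dotProduct]
  rw [aeval_eq_sum_range, Finset.sum_mul, Matrix.vecMul_sum, sum_dotProduct] at h
  refine Eq.trans (Finset.sum_congr rfl fun k _ => ?_) h
  rw [smul_mul_assoc, ← pow_add, Matrix.vecMul_smul, smul_dotProduct, smul_eq_mul]
  rfl

end CfsgLib.Known.CyclicTorus
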