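import Cfsg.Agent.Lib.Known.CyclicTorus.Main
import Cfsg.Agent.Lib.Known.CyclicTorus.Gram

/-!
# The self-centralising cyclic torus of order `Φ₃₀(q)` of `E₈(q)`
-/

set_option autoImplicit false
set_option Elab.async false
set_option maxHeartbeats 1600000

namespace CfsgLib.Known.CyclicTorus

open Cfsg.Lie (chevE8)
open CfsgLib.Lie.Chev
open scoped Matrix
open Polynomial

/-- The invariant form of `E₈`. -/
def bE8 : Matrix (Fin 8) (Fin 8) ℤ := Matrix.of fun i j => (cartE8.getD (i : ℕ) []).getD (j : ℕ) 0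

/-- The invariant form on coordinates. -/
def ipE8 (x y : Fin 8 → ℤ) : ℤ :=
  x 0 * (2 * y 0 - y 2) + x 1 * (2 * y 1 - y 3) + x 2 * (-y 0 + 2 * y 2 - y 3) +
    x 3 * (-y 1 - y 2 + 2 * y 3 - y 4) + x 4 * (-y 3 + 2 * y 4 - y 5) + x 5 * (-y 4 + 2 * y 5 - y 6) +
    x 6 * (-y 5 + 2 * y 6 - y 7) + x 7 * (-y 6 + 2 * y 7)

theorem ipE8_eq (x y : Fin 8 → ℤ) : x ⬝ᵥ bE8 *ᵥ y = ipE8 x y := by
  simp [bE8, cartE8, ipE8, dotProduct, Matrix.mulVec, Fin.sum_univ_eight]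
  ring

/-- The coordinates of a root of `E₈`. -/
def cE8 (s : Fin 240) : Fin 8 → ℤ := cvec chevE8 auxE8 s

/-- The coordinates of a numbered root of `E₈`. -/
def vE8 (s : ℕ) : Fin 8 → ℤ := cvec chevE8 auxE8 s

theorem bilE8 : BilOK chevE8 auxE8 bE8 := by
  intro k i j
  refine (ipE8_eq _ _).trans ?_
  revert k i j
  have h : ∀ k i j : Fin 8, ipE8 (vE8 (auxE8.w (k : ℕ) (chevE8.simple (i : ℕ))))
      (vE8 (auxE8.w (k : ℕ) (chevE8.simple (j : ℕ)))) = (cartE8.getD (i : ℕ) []).getD (j : ℕ) 0 := by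
    decide +kernel
  exact h

/-- The check of the pairing of two roots. -/
def pairOK (x y : Fin 8 → ℤ) : Bool :=
  decide (-2 ≤ ipE8 y x) && decide (ipE8 y x ≤ 2) && (decide (ipE8 y x ≠ 2) || decide (y = x)) &&
    (decide (ipE8 y x ≠ -2) || decide (y = -x))

theorem pairsE8_rows0 : ∀ (s : Fin 60) (t : Fin 240), pairOK (vE8 (0 + s)) (cE8 t) = true := by decide +kernel

theorem pairsE8_rows1 : ∀ (s : Fin 60) (t : Fin 240), pairOK (vE8 (60 + s)) (cE8 t) = true := by decide +kernel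

theorem pairsE8_rows2 : ∀ (s : Fin 60) (t : Fin 240), pairOK (vE8 (120 + s)) (cE8 t) = true := by decide +kernel

theorem pairsE8_rows3 : ∀ (s : Fin 60) (t : Fin 240), pairOK (vE8 (180 + s)) (cE8 t) = true := by decide +kernel

theorem pairsE8 : ∀ s t : Fin 240, pairOK (cE8 s) (cE8 t) = true := by
  intro s t
  show pairOK (vE8 s) (cE8 t) = true
  by_cases c0 : (s : ℕ) < 60
  · have h := pairsE8_rows0 ⟨s, c0⟩ t
    rwa [zero_add] at h
  by_cases c1 : (s : ℕ) < 120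
  · have h := pairsE8_rows1 ⟨s - 60, by omega⟩ t
    rwa [show 60 + ((s : ℕ) - 60) = s by omega] at h
  by_cases c2 : (s : ℕ) < 180
  · have h := pairsE8_rows2 ⟨s - 120, by omega⟩ t
    rwa [show 120 + ((s : ℕ) - 120) = s by omega] at h
  have h := pairsE8_rows3 ⟨s - 180, by omega⟩ t
  rwa [show 180 + ((s : ℕ) - 180) = s by omega] at h

theorem lenE8 : ∀ s : Fin 240, ipE8 (cE8 s) (cE8 s) = 2 := by decide +kernel

/-- The first pairings in the orbit of a root, from three of them. -/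
def seqE8 (a b c : ℤ) : List ℤ :=
  [2, a, b, c, 1 + a - c, 1, c - 1, -((c - 1) - (1 + a - c) - c - b + 2 + a),
    -(-((c - 1) - (1 + a - c) - c - b + 2 + a) - 1 - (1 + a - c) - c + a + 2)]

/-- The conditions on these pairings. -/
def okSeq (s : List ℤ) : Bool :=
  (s.all fun z => decide (-2 ≤ z) && decide (z ≤ 2)) &&
    (List.range 8).all fun k => (List.range (8 - k)).all fun j =>
      (decide (s.getD (k + 1) 0 ≠ 2) || decide (s.getD (k + 1 + j) 0 = s.getD j 0)) &&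
        (decide (s.getD (k + 1) 0 ≠ -2) || decide (s.getD (k + 1 + j) 0 = -(s.getD j 0)))

/-- Five times the inverses of the possible Gram matrices. -/
def tabE8 : List ((ℤ × ℤ × ℤ) × List (List ℤ)) :=
 [
  ((-1, -1, 0), [[6, -1, -5, -5, -3, -1, 5, 7],
    [-1, -2, -6, -3, -1, 3, 4, 5],
    [-5, -6, -2, -1, 2, 4, 3, -1],
    [-5, -3, -1, 2, 1, 2, -1, -3],
    [-3, -1, 2, 1, 2, -1, -3, -5],
    [-1, 3, 4, 2, -1, -2, -6, -5],
    [5, 4, 3, -1, -3, -6, -2, -1],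
    [7, 5, -1, -3, -5, -5, -1, 6]]),
  ((-1, 0, 0), [[10, 10, 5, 0, -5, -10, -5, 0],
    [10, 20, 15, 5, -5, -15, -15, -5],
    [5, 15, 20, 10, 0, -10, -15, -10],
    [0, 5, 10, 10, 5, 0, -5, -5],
    [-5, -5, 0, 5, 10, 10, 5, 0],
    [-10, -15, -10, 0, 10, 20, 15, 5],
    [-5, -15, -15, -5, 5, 15, 20, 10],
    [0, -5, -10, -5, 0, 5, 10, 10]]),
  ((-1, 0, 1), [[10, 5, 0, -5, -5, -5, 0, 5],
    [5, 10, 5, 0, -5, -5, -5, 0],
    [0, 5, 10, 5, 0, -5, -5, -5],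
    [-5, 0, 5, 10, 5, 0, -5, -5],
    [-5, -5, 0, 5, 10, 5, 0, -5],
    [-5, -5, -5, 0, 5, 10, 5, 0],
    [0, -5, -5, -5, 0, 5, 10, 5],
    [5, 0, -5, -5, -5, 0, 5, 10]]),
  ((-1, 1, 0), [[10, 5, -5, -5, -5, -5, 5, 5],
    [5, 10, 0, -5, -5, -5, 0, 5],
    [-5, 0, 10, 5, 0, 0, -5, -5],
    [-5, -5, 5, 10, 5, 0, -5, -5],
    [-5, -5, 0, 5, 10, 5, -5, -5],
    [-5, -5, 0, 0, 5, 10, 0, -5],
    [5, 0, -5, -5, -5, 0, 10, 5],
    [5, 5, -5, -5, -5, -5, 5, 10]]),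
  ((-1, 1, 1), [[4, 1, 0, 0, -2, -4, 0, 3],
    [1, 2, 1, 3, 1, -3, -4, 0],
    [0, 1, 2, 1, 3, 1, -3, -4],
    [0, 3, 1, -2, -1, 3, 1, -2],
    [-2, 1, 3, -1, -2, 1, 3, 0],
    [-4, -3, 1, 3, 1, 2, 1, 0],
    [0, -4, -3, 1, 3, 1, 2, 1],
    [3, 0, -4, -2, 0, 0, 1, 4]]),
  ((0, -1, 0), [[20, 5, -5, -10, -10, -10, 5, 15],
    [5, 10, 0, 0, -5, -5, -5, 5],
    [-5, 0, 10, 5, 5, 0, -5, -10],
    [-10, 0, 5, 10, 5, 5, -5, -10],
    [-10, -5, 5, 5, 10, 5, 0, -10],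
    [-10, -5, 0, 5, 5, 10, 0, -5],
    [5, -5, -5, -5, 0, 0, 10, 5],
    [15, 5, -10, -10, -10, -5, 5, 20]]),
  ((0, 0, 0), [[30, 10, -20, -10, -15, -20, 20, 20],
    [10, 20, -10, -10, -5, -15, 0, 20],
    [-20, -10, 20, 10, 10, 15, -15, -20],
    [-10, -10, 10, 10, 5, 10, -5, -15],
    [-15, -5, 10, 5, 10, 10, -10, -10],
    [-20, -15, 15, 10, 10, 20, -10, -20],
    [20, 0, -15, -5, -10, -10, 20, 10],
    [20, 20, -20, -15, -10, -20, 10, 30]]),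
  ((0, 0, 1), [[40, 5, -10, -25, -20, -15, 10, 35],
    [5, 10, -5, 0, -10, 0, -5, 10],
    [-10, -5, 10, 5, 10, 0, 0, -15],
    [-25, 0, 5, 20, 10, 10, -10, -20],
    [-20, -10, 10, 10, 20, 5, 0, -25],
    [-15, 0, 0, 10, 5, 10, -5, -10],
    [10, -5, 0, -10, 0, -5, 10, 5],
    [35, 10, -15, -20, -25, -10, 5, 40]]),
  ((0, 1, 0), [[-4, -1, 5, 0, 2, 4, -5, -3],
    [-1, -2, 4, 2, -1, 3, -1, -5],
    [5, 4, -2, -1, -3, -6, 3, 4],
    [0, 2, -1, 2, 1, -3, -1, 2],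
    [2, -1, -3, 1, 2, -1, 2, 0],
    [4, 3, -6, -3, -1, -2, 4, 5],
    [-5, -1, 3, -1, 2, 4, -2, -1],
    [-3, -5, 4, 2, 0, 5, -1, -4]]),
  ((0, 1, 1), [[10, 5, -5, -10, -5, 0, 5, 5],
    [5, 10, 0, -10, -10, 0, 5, 5],
    [-5, 0, 10, 5, -5, -5, 0, 0],
    [-10, -10, 5, 20, 10, -5, -10, -5],
    [-5, -10, -5, 10, 20, 5, -10, -10],
    [0, 0, -5, -5, 5, 10, 0, -5],
    [5, 5, 0, -10, -10, 0, 10, 5],
    [5, 5, 0, -5, -10, -5, 5, 10]]),
  ((1, 0, 1), [[-6, 1, 0, 5, 3, 1, 0, -7],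
    [1, 2, 1, -2, 1, -3, 1, 0],
    [0, 1, 2, 1, -2, 1, -3, 1],
    [5, -2, 1, -2, -1, -2, 1, 3],
    [3, 1, -2, -1, -2, 1, -2, 5],
    [1, -3, 1, -2, 1, 2, 1, 0],
    [0, 1, -3, 1, -2, 1, 2, 1],
    [-7, 0, 1, 3, 5, 0, 1, -6]]),
  ((1, 1, 1), [[20, 5, -10, -10, -10, -10, 10, 15],
    [5, 10, -5, -5, -5, -5, 0, 10],
    [-10, -5, 10, 5, 5, 5, -5, -10],
    [-10, -5, 5, 10, 5, 5, -5, -10],
    [-10, -5, 5, 5, 10, 5, -5, -10],
    [-10, -5, 5, 5, 5, 10, -5, -10],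
    [10, 0, -5, -5, -5, -5, 10, 5],
    [15, 10, -10, -10, -10, -10, 5, 20]])]

/-- The check of an entry of the table. -/
def chkTab (s : List ℤ) (N : List (List ℤ)) : Bool :=
  (List.range 8).all fun i => (List.range 8).all fun j =>
    decide (((List.range 8).map fun k => s.getD (max i k - min i k) 0 * (N.getD k []).getD j 0).sum =
      if i = j then 5 else 0)

theorem enumE8 : ∀ x y z : Fin 5, okSeq (seqE8 ((x : ℕ) - 2 : ℤ) ((y : ℕ) - 2) ((z : ℕ) - 2)) = true →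
    (tabE8.any fun e => decide (e.1 = (((x : ℕ) : ℤ) - 2, ((y : ℕ) : ℤ) - 2, ((z : ℕ) : ℤ) - 2)) &&
      chkTab (seqE8 ((x : ℕ) - 2 : ℤ) ((y : ℕ) - 2) ((z : ℕ) - 2)) e.2) = true := by
  decide +kernel

theorem cyclotomic_thirty : cyclotomic 30 ℤ = X ^ 8 + X ^ 7 - X ^ 5 - X ^ 4 - X ^ 3 + X + 1 := by
  have h6 : cyclotomic 6 ℤ = X ^ 2 - X + 1 := by
    have h := cyclotomic_expand_eq_cyclotomic_mul Nat.prime_three (n := 2) (by norm_num) ℤ
    rw [cyclotomic_two, map_add, map_one, expand_X] at h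
    refine mul_right_cancel₀ (show (X + 1 : ℤ[X]) ≠ 0 from (monic_X_add_C (1 : ℤ)).ne_zero) ?_
    rw [← h]; ring
  have h := cyclotomic_expand_eq_cyclotomic_mul Nat.prime_five (n := 6) (by norm_num) ℤ
  rw [h6, map_add, map_sub, map_pow, map_one, expand_X] at h
  refine mul_right_cancel₀ (h6 ▸ cyclotomic_ne_zero 6 ℤ) ?_
  rw [← h]; ring

theorem gramOK_E8 {P r : ℕ} (hr : r.Prime) (hr5 : r ≠ 5) (hP5 : ¬ 5 ∣ P) : GramOK chevE8 auxE8 bE8 30 P r := by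
  intro W hW hinv hPhi
  change Matrix (Fin 8) (Fin 8) ℤ at W
  change ∀ s : Fin 240, ∃ s' : Fin 240, cE8 s ᵥ* W = cE8 s' at hW
  change W * bE8 * Wᵀ = bE8 at hinv
  change aeval W (cyclotomic 30 ℤ) = 0 at hPhi
  rw [cyclotomic_thirty] at hPhi
  simp only [map_add, map_sub, map_pow, aeval_X, map_one] at hPhi
  have hsym : bE8ᵀ = bE8 := by decide +kernel
  suffices hall : ∀ s : Fin 240, (kry W (cE8 s)).det ∣ 5 ^ 8 by
    refine ⟨fun (s : Fin 240) (hd : (r : ℤ) ∣ (kry W (cE8 s)).det) => hr5 ?_, (0 : Fin 240), ?_⟩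
    · have h : r ∣ 5 ^ 8 := by exact_mod_cast hd.trans (hall s)
      exact (Nat.prime_dvd_prime_iff_eq hr (by norm_num)).1 (hr.dvd_of_dvd_pow h)
    · refine IsCoprime.of_isCoprime_of_dvd_left (IsCoprime.pow_left ?_) (hall 0)
      rw [Int.isCoprime_iff_gcd_eq_one]
      exact (Nat.prime_five.coprime_iff_not_dvd.2 hP5 : Nat.gcd 5 P = 1)
  intro s
  obtain ⟨g, hg⟩ : ∃ g, g = fun k => gram W bE8 (cE8 s) 0 k := ⟨_, rfl⟩
  have hval : ∀ k, g k = ipE8 (cE8 s ᵥ* W ^ k) (cE8 s) := fun k => by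
    rw [hg]
    show gram W bE8 (cE8 s) 0 k = _
    rw [gram_comm (cE8 s) hsym, gram, pow_zero, Matrix.vecMul_one, ipE8_eq]
  have horb : ∀ k, ∃ t, cE8 s ᵥ* W ^ k = cE8 t := by
    intro k
    induction k with
    | zero => exact ⟨s, by rw [pow_zero, Matrix.vecMul_one]⟩
    | succ k ih =>
      obtain ⟨t, ht⟩ := ih
      obtain ⟨t', ht'⟩ := hW t
      exact ⟨t', by rw [pow_succ, ← Matrix.vecMul_vecMul, ht, ht']⟩
  have hbound : ∀ k, (-2 ≤ g k ∧ g k ≤ 2) ∧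
      (g k = 2 → ∀ j, g (k + j) = g j) ∧ (g k = -2 → ∀ j, g (k + j) = -g j) := by
    intro k
    obtain ⟨t, ht⟩ := horb k
    have hp := pairsE8 s t
    simp only [pairOK, Bool.and_eq_true, Bool.or_eq_true, decide_eq_true_iff] at hp
    obtain ⟨⟨⟨p1, p2⟩, p3⟩, p4⟩ := hp
    rw [← ht, ← hval] at p1 p2 p3 p4
    refine ⟨⟨p1, p2⟩, fun h j => ?_, fun h j => ?_⟩
    · rw [hval, hval, pow_add, ← Matrix.vecMul_vecMul, p3.resolve_left (not_not_intro h)]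
    · rw [hval, hval, pow_add, ← Matrix.vecMul_vecMul, p4.resolve_left (not_not_intro h), Matrix.neg_vecMul,
        ← ipE8_eq, ← ipE8_eq, neg_dotProduct]
  have hrel : ∀ j, g (max 8 j - min 8 j) + g (max 7 j - min 7 j) - g (max 5 j - min 5 j) -
      g (max 4 j - min 4 j) - g (max 3 j - min 3 j) + g (max 1 j - min 1 j) + g (max 0 j - min 0 j) = 0 := by
    intro j
    have h := congrArg (fun Z => (cE8 s ᵥ* Z) ⬝ᵥ bE8 *ᵥ (cE8 s ᵥ* W ^ j)) hPhi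
    simp only [Matrix.vecMul_add, Matrix.vecMul_sub, add_dotProduct, sub_dotProduct, Matrix.vecMul_zero,
      zero_dotProduct] at h
    rw [← pow_one W, ← pow_zero W] at h
    simp only [hg, ← gram_dist (cE8 s) hinv hsym]
    simpa [gram] using h
  have g0 : g 0 = 2 := by rw [hval, pow_zero, Matrix.vecMul_one, lenE8]
  have r4 := hrel 4
  have r3 := hrel 3
  have r2 := hrel 2
  have r1 := hrel 1
  have r0 := hrel 0
  norm_num at r4 r3 r2 r1 r0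
  obtain ⟨x, hx⟩ : ∃ x : Fin 5, ((x : ℕ) : ℤ) - 2 = g 1 :=
    ⟨⟨(g 1 + 2).toNat, by have := (hbound 1).1; omega⟩, by have := (hbound 1).1; simp; omega⟩
  obtain ⟨y, hy⟩ : ∃ x : Fin 5, ((x : ℕ) : ℤ) - 2 = g 2 :=
    ⟨⟨(g 2 + 2).toNat, by have := (hbound 2).1; omega⟩, by have := (hbound 2).1; simp; omega⟩
  obtain ⟨z, hz⟩ : ∃ x : Fin 5, ((x : ℕ) : ℤ) - 2 = g 3 :=
    ⟨⟨(g 3 + 2).toNat, by have := (hbound 3).1; omega⟩, by have := (hbound 3).1; simp; omega⟩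
  have hseq : ∀ k, k < 9 → (seqE8 (g 1) (g 2) (g 3)).getD k 0 = g k := by
    intro k hk
    interval_cases k <;> simp [seqE8] <;> omega
  have henum := enumE8 x y z
  rw [hx, hy, hz] at henum
  have hok : okSeq (seqE8 (g 1) (g 2) (g 3)) = true := by
    simp only [okSeq, Bool.and_eq_true, List.all_eq_true, List.mem_range, Bool.or_eq_true, decide_eq_true_iff]
    refine ⟨fun v hv => ?_, fun k hk j hj => ?_⟩
    · obtain ⟨i, hi, rfl⟩ := List.getElem_of_mem hv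
      have hi9 : i < 9 := by simpa [seqE8] using hi
      have h := hseq i hi9
      rw [List.getD_eq_getElem?_getD, List.getElem?_eq_getElem hi] at h
      rw [show (seqE8 (g 1) (g 2) (g 3))[i] = g i from h]
      exact (hbound i).1
    · rw [hseq (k + 1) (by omega), hseq (k + 1 + j) (by omega), hseq j (by omega)]
      exact ⟨(em (g (k + 1) = 2)).symm.imp id fun h => (hbound (k + 1)).2.1 h j,
        (em (g (k + 1) = -2)).symm.imp id fun h => (hbound (k + 1)).2.2 h j⟩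
  obtain ⟨e, -, he⟩ := List.any_eq_true.1 (henum hok)
  rw [Bool.and_eq_true] at he
  obtain ⟨N, hN⟩ : ∃ N : Matrix (Fin 8) (Fin 8) ℤ, N = Matrix.of fun i j : Fin 8 => (e.2.getD i []).getD j 0 :=
    ⟨_, rfl⟩
  have hGN : (Matrix.of fun i j : Fin 8 => gram W bE8 (cE8 s) i j) * N = (5 : ℤ) • 1 := by
    refine Matrix.ext fun i j => ?_
    have h := he.2
    simp only [chkTab, List.all_eq_true, List.mem_range, decide_eq_true_iff] at h
    rw [Matrix.smul_apply, Matrix.one_apply, smul_eq_mul, mul_ite, mul_one, mul_zero, Matrix.mul_apply]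
    refine Eq.trans ?_ ((h i i.2 j j.2).trans (by simp only [Fin.val_inj]))
    rw [← List.map_coe_finRange_eq_range, List.map_map, Fin.sum_univ_def]
    refine congrArg List.sum (List.map_congr_left fun k _ => ?_)
    rw [Matrix.of_apply, gram_dist (cE8 s) hinv hsym, Function.comp_apply, hseq _ (by omega), hN, hg]
    rfl
  have hdet := congrArg Matrix.det hGN
  rw [← kry_gram, Matrix.det_mul, Matrix.det_mul, Matrix.det_mul, Matrix.det_smul, Matrix.det_one, mul_one,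
    Fintype.card_fin, mul_assoc, mul_assoc] at hdet
  exact ⟨_, hdet.symm⟩

theorem exists_torus_e8 {F : Type*} [Field F] [Fintype F] (q : ℕ) (hF : Fintype.card F = q) :
    HasTorus chevE8 F (q ^ 8 + q ^ 7 - q ^ 5 - q ^ 4 - q ^ 3 + q + 1) := by
  classical
  have hq : 1 < q := hF ▸ Fintype.one_lt_card
  obtain ⟨P, hP⟩ : ∃ P, P = q ^ 8 + q ^ 7 - q ^ 5 - q ^ 4 - q ^ 3 + q + 1 := ⟨_, rfl⟩
  rw [← hP]
  have h1 : q ^ 5 ≤ q ^ 7 := Nat.pow_le_pow_right (by omega) (by norm_num)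
  have h2 : q ^ 4 + q ^ 3 ≤ q ^ 8 := by
    have e1 : q ^ 4 ≤ q ^ 7 := Nat.pow_le_pow_right (by omega) (by norm_num)
    have e2 : q ^ 3 ≤ q ^ 7 := Nat.pow_le_pow_right (by omega) (by norm_num)
    have e3 : 2 * q ^ 7 ≤ q ^ 8 := by rw [pow_succ' q 7]; exact Nat.mul_le_mul_right _ hq
    omega
  have hPz : ((P : ℕ) : ℤ) = (q : ℤ) ^ 8 + (q : ℤ) ^ 7 - (q : ℤ) ^ 5 - (q : ℤ) ^ 4 - (q : ℤ) ^ 3 + q + 1 := by
    rw [hP]
    push_cast [show q ^ 5 ≤ q ^ 8 + q ^ 7 by omega, show q ^ 4 ≤ q ^ 8 + q ^ 7 - q ^ 5 by omega,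
      show q ^ 3 ≤ q ^ 8 + q ^ 7 - q ^ 5 - q ^ 4 by omega]
    ring
  have hsmall : ∀ d : ℕ, d = 2 ∨ d = 3 ∨ d = 5 → ¬ d ∣ P := by
    intro d hd h
    rw [← Int.natCast_dvd_natCast, hPz, ← ZMod.intCast_zmod_eq_zero_iff_dvd] at h
    push_cast at h
    revert h
    generalize (q : ZMod d) = z
    revert z
    rcases hd with rfl | rfl | rfl <;> decide +kernel
  have hP1 : P ≠ 1 := by omega
  obtain ⟨r, hr, hrP⟩ : ∃ r, r.Prime ∧ r ∣ P := Nat.exists_prime_and_dvd hP1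
  have : Fact r.Prime := ⟨hr⟩
  have hr2 : r ≠ 2 := fun h => hsmall 2 (Or.inl rfl) (h ▸ hrP)
  have hr3 : r ≠ 3 := fun h => hsmall 3 (Or.inr (Or.inl rfl)) (h ▸ hrP)
  have hr5 : r ≠ 5 := fun h => hsmall 5 (Or.inr (Or.inr rfl)) (h ▸ hrP)
  have hr30 : ¬ r ∣ 30 := by
    rw [show (30 : ℕ) = 2 * (3 * 5) from rfl, hr.dvd_mul, hr.dvd_mul,
      Nat.prime_dvd_prime_iff_eq hr Nat.prime_two, Nat.prime_dvd_prime_iff_eq hr Nat.prime_three,
      Nat.prime_dvd_prime_iff_eq hr Nat.prime_five]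
    omega
  have hr31 : 31 ≤ r := by
    have : NeZero ((30 : ℕ) : ZMod r) := ⟨fun h => hr30 ((ZMod.natCast_eq_zero_iff _ _).1 h)⟩
    have hz : IsPrimitiveRoot ((q : ℕ) : ZMod r) 30 := by
      rw [← isRoot_cyclotomic_iff, IsRoot.def, ← map_cyclotomic_int, eval_map,
        show ((q : ℕ) : ZMod r) = Int.castRingHom (ZMod r) (q : ℤ) by simp, eval₂_at_apply, cyclotomic_thirty]
      simp only [eval_add, eval_sub, eval_pow, eval_X, eval_one, ← hPz]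
      simpa using (ZMod.natCast_eq_zero_iff _ r).2 hrP
    have hne : ((q : ℕ) : ZMod r) ≠ 0 := hz.ne_zero (by norm_num)
    have h := ZMod.orderOf_dvd_card_sub_one hne
    rw [← hz.eq_orderOf] at h
    have := Nat.le_of_dvd (by have := hr.two_le; omega) h
    omega
  obtain ⟨p, hc⟩ := CharP.exists F
  have := hc
  obtain ⟨pa, hp, -⟩ := FiniteField.card F p
  have : Fact p.Prime := ⟨hp⟩
  let K := FiniteField.Extension F p 30
  have : Finite K := Module.finite_of_finite F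
  let : Fintype K := Fintype.ofFinite K
  refine exists_torus_of_extension certE8 cmat_E8 smithE8 (by decide +kernel) polyE8 rfl bilE8 (K := K) (n := 30)
    (r := r) hF ?_ ?_ hrP (by decide +kernel) hr30 ⟨30, by decide, dvd_rfl⟩ ?_ ?_
    (gramOK_E8 hr hr5 (hsmall 5 (Or.inr (Or.inr rfl))))
  · rw [← Nat.card_eq_fintype_card, ← hF, ← Nat.card_eq_fintype_card]
    exact FiniteField.natCard_extension F p 30
  · rw [cyclotomic_thirty, hPz]; simp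
  · intro k hk h
    have h2 : k ≤ 30 ∧ 0 < k := by simp at hk; omega
    exact absurd (Nat.le_of_dvd h2.2 h) (by omega)
  · show 8 + 1 < r
    omega

end CfsgLib.Known.CyclicTorus
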