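import Cfsg.Agent.Lib.Known.CyclicTorus.Main
import Cfsg.Agent.Lib.Known.CyclicTorus.Gram

/-!
# The self-centralising cyclic torus of order `q⁴ + 1` of `F₄(q)`
-/

set_option autoImplicit false
set_option maxHeartbeats 1600000

namespace CfsgLib.Known.CyclicTorus

open Cfsg.Lie (chevF4)
open CfsgLib.Lie.Chev
open scoped Matrix
open Polynomial

/-- The invariant form of `F₄`, short roots of length two. -/
def bF4 : Matrix (Fin 4) (Fin 4) ℤ := !![2, -1, 0, 0; -1, 2, -2, 0; 0, -2, 4, -2; 0, 0, -2, 4]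

/-- The invariant form on coordinates. -/
def ipF4 (x y : Fin 4 → ℤ) : ℤ :=
  x 0 * (2 * y 0 - y 1) + x 1 * (-y 0 + 2 * y 1 - 2 * y 2) + x 2 * (-2 * y 1 + 4 * y 2 - 2 * y 3) +
    x 3 * (-2 * y 2 + 4 * y 3)

theorem ipF4_eq (x y : Fin 4 → ℤ) : x ⬝ᵥ bF4 *ᵥ y = ipF4 x y := by
  simp [bF4, ipF4, dotProduct, Matrix.mulVec, Fin.sum_univ_four]
  ring

/-- The coordinates of a root of `F₄`. -/
def cF4 (s : Fin 48) : Fin 4 → ℤ := cvec chevF4 auxF4 s

/-- The coordinates of a numbered root of `F₄`. -/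
def vF4 (s : ℕ) : Fin 4 → ℤ := cvec chevF4 auxF4 s

theorem bilF4 : BilOK chevF4 auxF4 bF4 := by
  intro k i j
  refine (ipF4_eq _ _).trans ?_
  revert k i j
  have e : ∀ i j : Fin 4, bF4 i j =
      (([[2, -1, 0, 0], [-1, 2, -2, 0], [0, -2, 4, -2], [0, 0, -2, 4]] : List (List ℤ)).getD i []).getD j 0 := by
    intro i j
    fin_cases i <;> fin_cases j <;> rfl
  have h : ∀ k i j : Fin 4, ipF4 (vF4 (auxF4.w (k : ℕ) (chevF4.simple (i : ℕ))))
      (vF4 (auxF4.w (k : ℕ) (chevF4.simple (j : ℕ)))) =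
      (([[2, -1, 0, 0], [-1, 2, -2, 0], [0, -2, 4, -2], [0, 0, -2, 4]] : List (List ℤ)).getD i []).getD j 0 := by
    decide +kernel
  intro k i j
  exact (h k i j).trans (e i j).symm

theorem boundF4 : ∀ s t : Fin 48, -ipF4 (cF4 s) (cF4 s) ≤ ipF4 (cF4 t) (cF4 s) ∨
    ipF4 (cF4 t) (cF4 t) ≠ ipF4 (cF4 s) (cF4 s) := by
  decide +kernel

theorem boundF4' : ∀ s t : Fin 48, ipF4 (cF4 t) (cF4 s) ≤ ipF4 (cF4 s) (cF4 s) ∨
    ipF4 (cF4 t) (cF4 t) ≠ ipF4 (cF4 s) (cF4 s) := by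
  decide +kernel

theorem lenF4 : ∀ s : Fin 48, ipF4 (cF4 s) (cF4 s) = 2 ∨ ipF4 (cF4 s) (cF4 s) = 4 := by decide +kernel

theorem shortF4 : ∀ v ∈ [(![1, 0, 0, 0] : Fin 4 → ℤ), ![0, 1, 0, 0], ![1, 1, 0, 0], ![0, 1, 1, 0], ![1, 1, 1, 0],
    ![0, 1, 1, 1], ![1, 1, 1, 1]], ∃ s : Fin 48, cF4 s = v ∧ ipF4 v v = 2 := by
  decide +kernel

theorem simpleF4 : ∀ i : Fin 4, ∃ s : Fin 48, cF4 s = Pi.single i 1 := by decide +kernel

/-- The matrix with given rows. -/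
def rowsF4 (a b c e : Fin 48) : Matrix (Fin 4) (Fin 4) ℤ := Matrix.of ![cF4 a, cF4 b, cF4 c, cF4 e]

theorem enumF4 :
    ∀ a : Fin 48, ipF4 (cF4 a) (cF4 a) = 2 → ipF4 (cF4 a) ![1, 0, 0, 0] % 2 = 0 →
    ∀ b : Fin 48, ipF4 (cF4 b) (cF4 b) = 2 → ipF4 (cF4 a) (cF4 b) = -1 → ipF4 (cF4 b) ![0, 1, 0, 0] % 2 = 0 →
      ipF4 (cF4 a + cF4 b) ![1, 1, 0, 0] % 2 = 0 →
    ∀ c : Fin 48, ipF4 (cF4 c) (cF4 c) = 4 → ipF4 (cF4 a) (cF4 c) = 0 → ipF4 (cF4 b) (cF4 c) = -2 →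
      ipF4 (cF4 b + cF4 c) ![0, 1, 1, 0] % 2 = 0 → ipF4 (cF4 a + cF4 b + cF4 c) ![1, 1, 1, 0] % 2 = 0 →
    ∀ e : Fin 48, ipF4 (cF4 e) (cF4 e) = 4 → ipF4 (cF4 a) (cF4 e) = 0 → ipF4 (cF4 b) (cF4 e) = 0 →
      ipF4 (cF4 c) (cF4 e) = -2 → ipF4 (cF4 b + cF4 c + cF4 e) ![0, 1, 1, 1] % 2 = 0 →
      ipF4 (cF4 a + cF4 b + cF4 c + cF4 e) ![1, 1, 1, 1] % 2 = 0 →
      rowsF4 a b c e * rowsF4 a b c e * bF4 + (rowsF4 a b c e * rowsF4 a b c e * bF4)ᵀ ≠ 0 := by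
  decide +kernel

theorem cyclotomic_eight : cyclotomic 8 ℤ = X ^ 4 + 1 := by
  rw [show (8 : ℕ) = 2 ^ (2 + 1) from rfl, cyclotomic_prime_pow_eq_geom_sum Nat.prime_two]
  simp [Finset.sum_range_succ, add_comm]

theorem det_toeplitzF4 (a0 a1 : ℤ) :
    (!![a0, a1, 0, -a1; a1, a0, a1, 0; 0, a1, a0, a1; -a1, 0, a1, a0]).det = (a0 * a0 - 2 * (a1 * a1)) ^ 2 := by
  simp [Matrix.det_succ_row_zero, Fin.sum_univ_succ, Fin.succAbove]
  ring

theorem det_bF4 : bF4.det = 4 := by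
  simp [bF4, Matrix.det_succ_row_zero, Fin.sum_univ_succ, Fin.succAbove]

theorem gramOK_F4 {P r : ℕ} (hr : r.Prime) (hr17 : 17 ≤ r) : GramOK chevF4 auxF4 bF4 8 P r := by
  intro W hW hinv hPhi
  change Matrix (Fin 4) (Fin 4) ℤ at W
  change ∀ s : Fin 48, ∃ s' : Fin 48, cF4 s ᵥ* W = cF4 s' at hW
  change W * bF4 * Wᵀ = bF4 at hinv
  change aeval W (cyclotomic 8 ℤ) = 0 at hPhi
  rw [cyclotomic_eight, map_add, map_pow, aeval_X, map_one] at hPhi
  have hW4 : W ^ 4 = -1 := eq_neg_of_add_eq_zero_left hPhi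
  have hsym : bF4ᵀ = bF4 := by decide +kernel
  have hinv2 : W ^ 2 * bF4 * (W ^ 2)ᵀ = bF4 := by
    rw [sq, Matrix.transpose_mul]
    calc W * W * bF4 * (Wᵀ * Wᵀ) = W * (W * bF4 * Wᵀ) * Wᵀ := by simp only [Matrix.mul_assoc]
      _ = bF4 := by rw [hinv, hinv]
  have hskew : W * W * bF4 + (W * W * bF4)ᵀ = 0 := by
    have h2 : W ^ 2 * bF4 = -(bF4 * (W ^ 2)ᵀ) := by
      have h1 := congrArg (W ^ 2 * ·) hinv2
      simp only [← Matrix.mul_assoc, ← pow_add, show 2 + 2 = 4 from rfl, hW4, neg_one_mul, neg_mul, one_mul] at h1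
      exact h1.symm
    rw [Matrix.transpose_mul, hsym, ← sq, h2, neg_add_cancel]
  have key : ∀ s : Fin 48, ∃ a0 a1 : ℤ, a0 = ipF4 (cF4 s) (cF4 s) ∧ a1 = ipF4 (cF4 s ᵥ* W) (cF4 s) ∧
      (kry W (cF4 s)).det ^ 2 * 4 = (a0 * a0 - 2 * (a1 * a1)) ^ 2 := by
    intro s
    obtain ⟨g, hg⟩ : ∃ g, g = fun k => gram W bF4 (cF4 s) 0 k := ⟨_, rfl⟩
    have h00 : g 0 = ipF4 (cF4 s) (cF4 s) := by simp [hg, gram, ipF4_eq]
    have h01 : g 1 = ipF4 (cF4 s ᵥ* W) (cF4 s) := by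
      rw [hg]
      show gram W bF4 (cF4 s) 0 1 = _
      rw [gram_comm (cF4 s) hsym]
      simp [gram, ipF4_eq]
    have hrel : ∀ i j, gram W bF4 (cF4 s) (4 + i) j = -gram W bF4 (cF4 s) i j := fun i j => by
      unfold gram
      rw [pow_add, hW4, neg_one_mul, Matrix.vecMul_neg, neg_dotProduct]
    have h02 : g 2 = 0 := by
      have h1 := hrel 0 2
      rw [gram_dist (cF4 s) hinv hsym (4 + 0) 2] at h1
      simp only [hg]
      norm_num at h1 ⊢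
      linarith
    have h03 : g 3 = -g 1 := by
      have h1 := hrel 0 1
      rw [gram_dist (cF4 s) hinv hsym (4 + 0) 1] at h1
      simp only [hg]
      norm_num at h1 ⊢
      linarith
    refine ⟨g 0, g 1, h00, h01, ?_⟩
    rw [← det_toeplitzF4 (g 0) (g 1)]
    have hM := kry_gram W bF4 (cF4 s)
    have hG : (Matrix.of fun i j : Fin 4 => gram W bF4 (cF4 s) i j) =
        !![g 0, g 1, 0, -g 1; g 1, g 0, g 1, 0; 0, g 1, g 0, g 1; -g 1, 0, g 1, g 0] := by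
      rw [← h03, ← h02]
      refine Matrix.ext fun i j => ?_
      rw [Matrix.of_apply, gram_dist (cF4 s) hinv hsym, hg]
      fin_cases i <;> fin_cases j <;> rfl
    rw [← hG, ← hM, Matrix.det_mul, Matrix.det_mul, Matrix.det_transpose, det_bF4]
    ring
  have hbound : ∀ s : Fin 48, -ipF4 (cF4 s) (cF4 s) ≤ ipF4 (cF4 s ᵥ* W) (cF4 s) ∧
      ipF4 (cF4 s ᵥ* W) (cF4 s) ≤ ipF4 (cF4 s) (cF4 s) := by
    intro s
    obtain ⟨t, ht⟩ := hW s
    have hlen : ipF4 (cF4 t) (cF4 t) = ipF4 (cF4 s) (cF4 s) := by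
      rw [← ht, ← ipF4_eq, ← ipF4_eq, ← Matrix.dotProduct_mulVec, ← Matrix.mulVec_transpose W (cF4 s),
        Matrix.mulVec_mulVec, Matrix.mulVec_mulVec, hinv]
    rw [ht]
    exact ⟨(boundF4 s t).resolve_right (not_not_intro hlen), (boundF4' s t).resolve_right (not_not_intro hlen)⟩
  refine ⟨fun (s : Fin 48) (hdvd : (r : ℤ) ∣ (kry W (cF4 s)).det) => ?_, ?_⟩
  · obtain ⟨a0, a1, e0, e1, hdet⟩ := key s
    obtain ⟨hb1, hb2⟩ := hbound s
    rw [← e1, ← e0] at hb1 hb2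
    have hd : (r : ℤ) ∣ a0 * a0 - 2 * (a1 * a1) := by
      refine (Nat.prime_iff_prime_int.1 hr).dvd_of_dvd_pow (n := 2) ?_
      rw [← hdet]
      exact (dvd_pow hdvd two_ne_zero).mul_right _
    have h17 : (17 : ℤ) ≤ r := by exact_mod_cast hr17
    rcases e0 ▸ lenF4 s with h | h <;> subst h <;> interval_cases a1 <;> norm_num at hd <;>
      exact absurd (Int.le_of_dvd (by norm_num) hd) (by omega)
  · suffices h : ∃ s : Fin 48, IsCoprime (kry W (cF4 s)).det (P : ℤ) from h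
    by_contra hall
    simp only [not_exists] at hall
    have heven : ∀ v ∈ [(![1, 0, 0, 0] : Fin 4 → ℤ), ![0, 1, 0, 0], ![1, 1, 0, 0], ![0, 1, 1, 0], ![1, 1, 1, 0],
        ![0, 1, 1, 1], ![1, 1, 1, 1]], ipF4 (v ᵥ* W) v % 2 = 0 := by
      intro v hv
      obtain ⟨s, rfl, hs2⟩ := shortF4 v hv
      obtain ⟨a0, a1, e0, e1, hdet⟩ := key s
      obtain ⟨hb1, hb2⟩ := hbound s
      rw [← e1, ← e0] at hb1 hb2
      rw [← e1]
      by_contra hodd
      rw [hs2] at e0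
      subst e0
      have h4 : (kry W (cF4 s)).det ^ 2 = 1 := by
        generalize (kry W (cF4 s)).det ^ 2 = X at hdet ⊢
        generalize ipF4 (cF4 s ᵥ* W) (cF4 s) = Y at e1
        interval_cases a1 <;> norm_num at hdet hodd <;> omega
      exact hall s (isCoprime_one_left.of_isCoprime_of_dvd_left ⟨(kry W (cF4 s)).det, by rw [← sq, h4]⟩)
    have hrow : ∀ i : Fin 4, ∃ s : Fin 48, cF4 s = W i := fun i => by
      obtain ⟨s, hs⟩ := simpleF4 i
      obtain ⟨t, ht⟩ := hW s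
      exact ⟨t, by rw [← ht, hs, Matrix.single_one_vecMul]; rfl⟩
    obtain ⟨a, ha⟩ := hrow 0
    obtain ⟨b, hb⟩ := hrow 1
    obtain ⟨c, hc⟩ := hrow 2
    obtain ⟨e, he⟩ := hrow 3
    have hWrows : W = rowsF4 a b c e := by
      refine Matrix.ext fun i j => ?_
      fin_cases i <;> simp [rowsF4, ha, hb, hc, he]
    have hG : ∀ i j : Fin 4, ipF4 (W i) (W j) = bF4 i j := fun i j => by
      rw [← ipF4_eq]
      refine Eq.trans ?_ (congrFun (congrFun hinv i) j)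
      rw [Matrix.mul_assoc]
      simp only [Matrix.mul_apply, Matrix.transpose_apply, dotProduct, Matrix.mulVec]
    have hvW : ∀ v : Fin 4 → ℤ, v ᵥ* W = v 0 • cF4 a + v 1 • cF4 b + v 2 • cF4 c + v 3 • cF4 e := fun v => by
      funext j
      simp [Matrix.vecMul, dotProduct, Fin.sum_univ_four, ha, hb, hc, he]
    simp only [List.forall_mem_cons, hvW] at heven
    obtain ⟨e1, e2, e3, e4, e5, e6, e7, -⟩ := heven
    refine enumF4 a ?_ ?_ b ?_ ?_ ?_ ?_ c ?_ ?_ ?_ ?_ ?_ e ?_ ?_ ?_ ?_ ?_ ?_ ?_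
    all_goals first
      | (rw [ha]; exact hG 0 0)
      | (rw [hb]; exact hG 1 1)
      | (rw [hc]; exact hG 2 2)
      | (rw [he]; exact hG 3 3)
      | (rw [ha, hb]; exact hG 0 1)
      | (rw [ha, hc]; exact hG 0 2)
      | (rw [hb, hc]; exact hG 1 2)
      | (rw [ha, he]; exact hG 0 3)
      | (rw [hb, he]; exact hG 1 3)
      | (rw [hc, he]; exact hG 2 3)
      | simpa [add_assoc] using e1
      | simpa [add_assoc] using e2
      | simpa [add_assoc] using e3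
      | simpa [add_assoc] using e4
      | simpa [add_assoc] using e5
      | simpa [add_assoc] using e6
      | simpa [add_assoc] using e7
      | (rw [← hWrows]; exact hskew)

theorem exists_torus_f4 {F : Type*} [Field F] [Fintype F] (q : ℕ) (hF : Fintype.card F = q) :
    HasTorus chevF4 F (q ^ 4 + 1) := by
  classical
  have hq : 1 < q := hF ▸ Fintype.one_lt_card
  obtain ⟨r, hr, hrP, hr2⟩ : ∃ r, r.Prime ∧ r ∣ q ^ 4 + 1 ∧ r ≠ 2 := by
    by_contra h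
    simp only [not_exists, not_and, not_not] at h
    obtain ⟨k, hk⟩ : ∃ k, q ^ 4 + 1 = 2 ^ k :=
      ⟨_, Nat.eq_prime_pow_of_unique_prime_dvd (Nat.succ_ne_zero _) fun {d} hd hdd => h d hd hdd⟩
    have h16 : 16 ≤ q ^ 4 := le_trans (by norm_num) (Nat.pow_le_pow_left hq 4)
    have hk4 : 4 ∣ 2 ^ k := by
      rcases Nat.lt_or_ge k 2 with h0 | h0
      · interval_cases k <;> omega
      · exact (Nat.pow_dvd_pow 2 h0 : 2 ^ 2 ∣ 2 ^ k)
    rw [← hk, ← ZMod.natCast_eq_zero_iff] at hk4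
    push_cast at hk4
    revert hk4
    generalize (q : ZMod 4) = z
    revert z
    decide
  have : Fact r.Prime := ⟨hr⟩
  have hord : orderOf ((q : ℕ) : ZMod r) = 2 ^ (2 + 1) := by
    have h : ((q : ℕ) : ZMod r) ^ 4 = -1 := by
      rw [eq_neg_iff_add_eq_zero]
      exact_mod_cast (ZMod.natCast_eq_zero_iff _ r).2 hrP
    refine orderOf_eq_prime_pow ?_ (by rw [show 2 ^ (2 + 1) = 4 * 2 from rfl, pow_mul, h, neg_one_sq])
    rw [show 2 ^ 2 = 4 from rfl, h]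
    have : Fact (2 < r) := ⟨lt_of_le_of_ne hr.two_le (Ne.symm hr2)⟩
    exact ZMod.neg_one_ne_one
  have hr17 : 17 ≤ r := by
    have hne : ((q : ℕ) : ZMod r) ≠ 0 := fun h => by rw [h, orderOf_zero] at hord; norm_num at hord
    have h := ZMod.orderOf_dvd_card_sub_one hne
    rw [hord] at h
    obtain ⟨w, hw⟩ := h
    have := hr.two_le
    have : w ≠ 1 := fun h1 => by
      subst h1
      have : r = 9 := by omega
      subst this
      norm_num at hr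
    omega
  obtain ⟨p, hc⟩ := CharP.exists F
  have := hc
  obtain ⟨pa, hp, -⟩ := FiniteField.card F p
  have : Fact p.Prime := ⟨hp⟩
  let K := FiniteField.Extension F p 8
  have : Finite K := Module.finite_of_finite F
  let : Fintype K := Fintype.ofFinite K
  refine exists_torus_of_extension certF4 cmat_F4 smithF4 (by decide +kernel) polyF4 rfl bilF4 (K := K) (n := 8)
    (r := r) hF ?_ ?_ hrP (by decide +kernel) ?_ ⟨8, by decide, dvd_rfl⟩ ?_ ?_ (gramOK_F4 hr hr17)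
  · rw [← Nat.card_eq_fintype_card, ← hF, ← Nat.card_eq_fintype_card]
    exact FiniteField.natCard_extension F p 8
  · rw [cyclotomic_eight]; simp
  · exact fun h => absurd (Nat.le_of_dvd (by norm_num) h) (by omega)
  · intro k hk h
    have h2 : k ≤ 12 ∧ 0 < k := by simp at hk; omega
    exact absurd (Nat.le_of_dvd h2.2 h) (by omega)
  · show 4 + 1 < r
    omega

end CfsgLib.Known.CyclicTorus
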